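import Cfsg.Agent.Omega.IId.BigD.Plug
import Cfsg.Agent.Omega.IId.ThmCD.Of

/-!
# CvBig, `q = 2`, CASE 1, over helper653's THEOREM C (`NV.thmCD`)
-/

set_option autoImplicit false

namespace Cfsg.Agent.Omega.IId.NV.BigD

open Subgroup Pointwise Cfsg Cfsg.Agent.ZN Cfsg.Agent.ZN.ChoiceBase
open Cfsg.Agent.Omega.MinPar Cfsg.Agent.Omega.FFThm

universe u

variable {G : Type u} [Group G] [Finite G] {F : Type} [Field F] [Finite F] [CharP F 2] {S : Sylow 2 G}
  {P V D : Subgroup G} {k : ℕ}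

/-- THEOREM C in the form `CCD` -/
theorem ccd (M : NatD F S P V D k) (hF : Nat.card F = 2) : CCD M := fun i v hv hv1 => by
  obtain ⟨h1, -, h2⟩ := NV.thmCD M hF (i := i) hv hv1
  exact ⟨h1, fun l hl q hq x hx => (mem_centralizer_iff.1 (h2 l hl hq) x hx).symm⟩

/-- **CASE 1, `q = 2`, all `k ≥ 2`, all `D`**: `T = N_S(V_i)` Sylow in `N_G(R)`, `V_i` unmixed: contradiction. -/
theorem false_two (M : NatD F S P V D k) (hF : Nat.card F = 2) (hk : 2 ≤ k) (hD : D ≠ ⊥ ∨ 2 < k) {i : Fin k}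
    (hu : Cv.UnM M i) (hd : ¬ 2 ∣ (stab M.toNatV i).relIndex (normalizer (line M.toNatV i : Set G))) : False :=
  Sit.false_of { toSit0 := Sit0.of_unm hF hk (ccd M hF) hu, unm := hu, odd := hd } hD

end Cfsg.Agent.Omega.IId.NV.BigD
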