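import Cfsg.Agent.Omega.IId.Cv.Bts
import Cfsg.Agent.Omega.IId.Big.Syl.Base
import Cfsg.Agent.Omega.HT.LemE

/-!
# CvBig, `q = 2`, CASE 1: the frame over `T = stab M i`, `V_P = V_1 × .. × V_k × D`, `D` arbitrary

`M : NatD F S P V D k`, `|F| = 2`.

* `CCD M` : THEOREM C with `D` (bb OMEGA 19448, helper653): `O₂(C_G(v)) ≤ S` centralises the factors `V_l`, `l ≠ i`,
  for the points `v` of `line M i`;
* `Sit0 M i` : `CCD M` and `W_v` moves `V_l` for all points `v ∈ V_l` (`Sit0.of_unm` : if `V_i` is unmixed);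
* `Sit M i` : CASE 1: moreover `V_i` is unmixed and `T = stab M i` is a Sylow 2-subgroup of `N_G(line M i)`;
* `Sit0.fr` : 428's frame `Fr (⨆ V_l) (V_l)`;
* `Sit0.zz_q` : `Ω₁Z(O₂(P)) ≤ O₂(C_G(v))` for all points `v`;
* `Sit.ot` : (OT).
-/

set_option autoImplicit false
set_option linter.unusedSectionVars false

namespace Cfsg.Agent.Omega.IId.NV.BigD

open Subgroup Pointwise Cfsg Cfsg.Agent.ZN Cfsg.Agent.ZN.ChoiceBase
open Cfsg.Agent.Omega.MinPar Cfsg.Agent.Omega.FFThm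
open Cfsg.Agent.MinSimple.VModule (o2_isPGroup)
open Cfsg.Agent.Omega.IId.NV
open Cfsg.Agent.Omega.IId.Big (Fr Vo conj_mem norm_of comm_of_conj conj_of_comm isPGroup_of_sq le_Vo Vo_le
  cent_of_closure)
open Triangle (KK KK_conj KK_le_o2 mem_cent mem_KK mem_zpowers_iff_of_sq cent_conj o2_cent_conj)

universe u

local notation "cz" v:max => centralizer ({v} : Set _)
local notation "qz" v:max => ZN.o2 (centralizer ({v} : Set _))

section basics

variable {G : Type u} [Group G] [Finite G] {F : Type} [Field F] [Finite F] [CharP F 2] {S : Sylow 2 G}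
  {P V D : Subgroup G} {k : ℕ} (M : NatD F S P V D k)

/-- THEOREM C with `D`: `O₂(C_G(v)) ≤ S` centralises `V_l`, `l ≠ i`, for `1 ≠ v ∈ line M i`. -/
def CCD : Prop :=
  ∀ i, ∀ v ∈ line M.toNatV i, v ≠ 1 → qz v ≤ (S : Subgroup G) ∧
    ∀ l, l ≠ i → ∀ q ∈ qz v, ∀ x ∈ fac M.toNatV l, q * x = x * q

theorem exists_line (i : Fin k) : ∃ v ∈ line M.toNatV i, v ≠ 1 :=
  (Subgroup.bot_or_exists_ne_one _).resolve_left (line_ne_bot' (M := M.toNatV) i)

variable {M}

theorem eq_of_line (hF : Nat.card F = 2) {i : Fin k} {v w : G} (hv : v ∈ line M.toNatV i) (hv1 : v ≠ 1)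
    (hw : w ∈ line M.toNatV i) : w = 1 ∨ w = v := by
  have hc : Nat.card (line M.toNatV i) = 2 := by rw [card_line, hF]
  exact Two.eq_or_eq_of_card_two hc hv hv1 hw

theorem cj_ne_one {g v : G} (hv : v ≠ 1) : g * v * g⁻¹ ≠ 1 := fun h0 => hv (by
  calc v = g⁻¹ * (g * v * g⁻¹) * g := by group
    _ = 1 := by rw [h0]; group)

theorem stab_comm_line (hF : Nat.card F = 2) {i : Fin k} {v t : G} (hv : v ∈ line M.toNatV i)
    (ht : t ∈ stab M.toNatV i) : t * v = v * t := by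
  by_cases hv1 : v = 1
  · rw [hv1, mul_one, one_mul]
  have h1 : t * v * t⁻¹ ∈ line M.toNatV i :=
    (mem_normalizer_iff.1 (stab_normalizes_line M.toNatV (SP M) i ht) v).1 hv
  exact comm_of_conj ((eq_of_line hF hv hv1 h1).resolve_left (cj_ne_one hv1))

theorem normalizer_line_eq (hF : Nat.card F = 2) {i : Fin k} {v : G} (hv : v ∈ line M.toNatV i)
    (hv1 : v ≠ 1) : normalizer (line M.toNatV i : Set G) = cz v := by
  apply le_antisymm
  · intro g hg
    have h1 := (mem_normalizer_iff.1 hg v).1 hv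
    exact mem_cent.2 (comm_of_conj ((eq_of_line hF hv hv1 h1).resolve_left (cj_ne_one hv1)))
  · intro g hg
    refine centralizer_le_normalizer _ (mem_centralizer_iff.2 fun y hy => ?_)
    rcases eq_of_line hF hv hv1 hy with h1 | h1
    · rw [h1, one_mul, mul_one]
    · rw [h1]; exact (mem_cent.1 hg).symm

/-- `O₂(C_G(v)) ≤ N_S(V_i)`, it normalises all factors -/
theorem qz_le_stab (hC : CCD M) {i : Fin k} {v : G} (hv : v ∈ line M.toNatV i) (hv1 : v ≠ 1) :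
    qz v ≤ stab M.toNatV i ∧ ∀ l, qz v ≤ normalizer (fac M.toNatV l : Set G) := by
  obtain ⟨h1, h2⟩ := hC i v hv hv1
  have h3 : ∀ l, l ≠ i → qz v ≤ normalizer (fac M.toNatV l : Set G) := fun l hl q hq =>
    centralizer_le_normalizer _ (mem_centralizer_iff.2 fun x hx => (h2 l hl q hq x hx).symm)
  have h4 : ∀ l, qz v ≤ normalizer (fac M.toNatV l : Set G) := by
    intro l q hq
    by_cases hl : l = i
    · subst hl
      have hqP : q ∈ P := SP M (h1 hq)
      rw [mem_normalizer_fac_iff M.toNatV hqP]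
      by_contra hne
      -- the image of `l` is fixed
      have h5 := (mem_normalizer_fac_iff M.toNatV hqP).1 (h3 _ hne hq)
      exact hne ((sg M.toNatV hqP).injective h5)
    · exact h3 l hl hq
  exact ⟨le_inf h1 (h4 i), h4⟩

include M in
theorem D_comm' {x d : G} (hx : x ∈ P) (hd : d ∈ D) : x * d = d * x :=
  (mem_centralizer_iff.1 (M.cD hx) d hd).symm

theorem V_le_iSup : V ≤ ⨆ l, fac M.toNatV l := by
  classical
  have key : ∀ s : Finset (Fin k), part M.toNatV (s : Set (Fin k)) ≤ ⨆ l, fac M.toNatV l := by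
    intro s
    induction s using Finset.induction_on with
    | empty => rw [Finset.coe_empty, part_empty]; exact bot_le
    | insert a t hat ih =>
      intro v hv
      obtain ⟨x, hx, hxa⟩ := exists_fac M.toNatV a (M.e v a)
      have h1 : v * x⁻¹ ∈ part M.toNatV (t : Set (Fin k)) := by
        refine (mem_part _).2 ⟨mul_mem hv.1 (inv_mem hx.1), fun j hj => ?_⟩
        rw [M.mul _ hv.1 _ (inv_mem hx.1), e_inv M.toNatV hx.1, Pi.add_apply, Pi.neg_apply]
        by_cases hja : j = a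
        · rw [hja, hxa]; simp
        · have h2 := ((mem_part _).1 hv).2 j (by
            rw [Finset.coe_insert]
            rintro (h | h)
            · exact hja h
            · exact hj h)
          rw [h2, hx.2 j hja]; simp
      have h3 : v = v * x⁻¹ * x := by group
      rw [h3]
      exact mul_mem (ih h1) ((le_iSup (fun l => fac M.toNatV l) a) hx)
  have h := key Finset.univ
  rwa [Finset.coe_univ, part_univ] at h

/-- `V ≤ KK v`, `1 ≠ v ∈ line M i` -/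
theorem V_le_KK_line (hC : CCD M) (hF : Nat.card F = 2) {i : Fin k} {v : G} (hv : v ∈ line M.toNatV i)
    (hv1 : v ≠ 1) : V ≤ KK v := by
  refine (V_le_iSup (M := M)).trans (iSup_le fun l a ha => ?_)
  refine mem_KK.2 ⟨NV.comm M.toNatV ha.1 (line_le _ i hv).1, fun x hx => ?_⟩
  by_cases hl : l = i
  · subst hl
    have hxs := (qz_le_stab hC hv hv1).1 hx
    have h1 : x * a * x⁻¹ * a⁻¹ ∈ line M.toNatV l := by
      obtain ⟨n, hn⟩ := S.isPGroup' ⟨x, hxs.1⟩
      refine comm_line M.toNatV (SP M) hxs ⟨n, congrArg Subtype.val hn⟩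
        (fun r hr => stab_comm_line hF hr hxs) ha
    have e : a * x * a⁻¹ * x⁻¹ = (x * a * x⁻¹ * a⁻¹)⁻¹ := by group
    rw [e]
    rcases eq_of_line hF hv hv1 h1 with h2 | h2
    · rw [h2, inv_one]; exact one_mem _
    · rw [h2]; exact inv_mem (mem_zpowers v)
  · have h1 := (hC i v hv hv1).2 l hl x hx a ha
    have h2 : a * x * a⁻¹ * x⁻¹ = 1 := by rw [← h1]; group
    rw [h2]
    exact one_mem _

theorem zl_le_KK_line (hC : CCD M) (hF : Nat.card F = 2) {i : Fin k} {v : G} (hv : v ∈ line M.toNatV i)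
    (hv1 : v ≠ 1) : zl (S : Subgroup G) P ≤ KK v := by
  intro x hx
  obtain ⟨n, hn, d, hd, rfl⟩ := M.dec x hx
  refine mul_mem (V_le_KK_line hC hF hv hv1 hn) (mem_KK.2 ⟨?_, fun q hq => ?_⟩)
  · exact (D_comm' (M := M) (SP M (V_le_S M (line_le _ i hv).1)) hd).symm
  · have h1 := D_comm' (M := M) (SP M ((hC i v hv hv1).1 hq)) hd
    have h2 : d * q * d⁻¹ * q⁻¹ = 1 := by rw [← h1]; group
    rw [h2]
    exact one_mem _

/-- the conjugacy of all points of all factors under `P` -/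
theorem exists_P_conj {i j : Fin k} {v w : G} (hv : v ∈ fac M.toNatV i) (hv1 : v ≠ 1)
    (hw : w ∈ fac M.toNatV j) (hw1 : w ≠ 1) :
    ∃ g ∈ P, g * v * g⁻¹ = w ∧ (∀ x, x ∈ fac M.toNatV i ↔ g * x * g⁻¹ ∈ fac M.toNatV j) ∧
      ∀ l, ∃ m, (l ≠ i → m ≠ j) ∧ ∀ x, x ∈ fac M.toNatV l ↔ g * x * g⁻¹ ∈ fac M.toNatV m := by
  obtain ⟨s, hs, h1⟩ := exists_trans M.toNatV (SP M) i j
  have hsP := SP M hs
  have h2 : s * v * s⁻¹ ∈ fac M.toNatV j := by
    rw [← h1, mem_cj_iff]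
    have e : s⁻¹ * (s * v * s⁻¹) * s = v := by group
    rwa [e]
  obtain ⟨g, hg, hgw⟩ := exists_grp M.toNatV h2 hw (cj_ne_one hv1) hw1
  have hgP := grp_le _ _ hg
  have hgs : g * s ∈ P := mul_mem hgP hsP
  have key : ∀ l x, x ∈ fac M.toNatV l ↔ g * s * x * (g * s)⁻¹ ∈ fac M.toNatV (sg M.toNatV hgs l) := by
    intro l x
    rw [← conj_fac M.toNatV hgs l, mem_cj_iff]
    have e : (g * s)⁻¹ * (g * s * x * (g * s)⁻¹) * (g * s) = x := by group
    rw [e]
  have e1 : sg M.toNatV hgs i = j := by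
    rw [sg_eq_iff]
    have h5 : cj g (fac M.toNatV j) = fac M.toNatV j :=
      cj_eq_of_mem_normalizer (grp_normalizes M.toNatV {j} {j} hg)
    have h6 : cj (g * s) (fac M.toNatV i) = cj g (cj s (fac M.toNatV i)) := by
      ext x
      rw [mem_cj_iff, mem_cj_iff, mem_cj_iff]
      have e : (g * s)⁻¹ * x * (g * s) = s⁻¹ * (g⁻¹ * x * g) * s := by group
      rw [e]
    rw [h6, h1, h5]
  refine ⟨g * s, hgs, by rw [← hgw]; group, fun x => by rw [key i x, e1], fun l => ⟨_, fun hl h => hl ?_, key l⟩⟩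
  exact (sg M.toNatV hgs).injective (h.trans e1.symm)

theorem zl_le_KK (hC : CCD M) (hF : Nat.card F = 2) {i : Fin k} {v : G} (hv : v ∈ fac M.toNatV i)
    (hv1 : v ≠ 1) : zl (S : Subgroup G) P ≤ KK v := by
  obtain ⟨v₀, hv₀, hv₀1⟩ := exists_line M i
  obtain ⟨g, hg, hgv, -⟩ := exists_P_conj (line_le _ i hv₀) hv₀1 hv hv1
  intro x hx
  have h0 : g⁻¹ * x * g ∈ zl (S : Subgroup G) P := by
    have := conj_mem (le_normalizer_zl (S : Subgroup G) P) (inv_mem hg) hx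
    rwa [inv_inv] at this
  have h1 := zl_le_KK_line hC hF hv₀ hv₀1 h0
  have h2 := KK_conj (h := g) h1
  have e : g * (g⁻¹ * x * g) * g⁻¹ = x := by group
  rwa [hgv, e] at h2

/-- `Q_v ≤ P`, all points `v` -/
theorem q_le_P (hC : CCD M) {i : Fin k} {v : G} (hv : v ∈ fac M.toNatV i) (hv1 : v ≠ 1) : qz v ≤ P := by
  obtain ⟨v₀, hv₀, hv₀1⟩ := exists_line M i
  obtain ⟨g, hg, hgv, -⟩ := exists_P_conj (line_le _ i hv₀) hv₀1 hv hv1
  intro x hx
  have h1 : g⁻¹ * x * g ∈ qz v₀ := by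
    have h0 : g⁻¹ * x * g⁻¹⁻¹ ∈ qz (g⁻¹ * v * g⁻¹⁻¹) := by
      rw [o2_cent_conj]
      exact ⟨x, hx, rfl⟩
    have e : g⁻¹ * v * g⁻¹⁻¹ = v₀ := by rw [← hgv]; group
    rwa [e, inv_inv] at h0
  have h2 : g⁻¹ * x * g ∈ P := SP M ((hC i v₀ hv₀ hv₀1).1 h1)
  have e : x = g * (g⁻¹ * x * g) * g⁻¹ := by group
  rw [e]
  exact mul_mem (mul_mem hg h2) (inv_mem hg)

/-- THEOREM C at all points -/
theorem qz_comm (hC : CCD M) {i j : Fin k} (hij : j ≠ i) {v q x : G} (hv : v ∈ fac M.toNatV i)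
    (hv1 : v ≠ 1) (hq : q ∈ qz v) (hx : x ∈ fac M.toNatV j) : q * x = x * q := by
  obtain ⟨v₀, hv₀, hv₀1⟩ := exists_line M i
  obtain ⟨g, hg, hgv, hgi, hgl⟩ := exists_P_conj hv hv1 (line_le _ i hv₀) hv₀1
  obtain ⟨m, hm, hmx⟩ := hgl j
  have h1 : g * q * g⁻¹ ∈ qz v₀ := by
    have h0 : g * q * g⁻¹ ∈ qz (g * v * g⁻¹) := by
      rw [o2_cent_conj]
      exact ⟨q, hq, rfl⟩
    rwa [hgv] at h0
  have h3 := (hC i v₀ hv₀ hv₀1).2 m (hm hij) _ h1 _ ((hmx x).1 hx)
  calc q * x = g⁻¹ * (g * q * g⁻¹ * (g * x * g⁻¹)) * g := by group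
    _ = x * q := by rw [h3]; group

variable (M) in
/-- `D^` : the elements of `Ω₁Z(O₂(P))` centralised by all `W_v` -/
def Cen (e : G) : Prop :=
  e ∈ zc (o2 P) ∧ ∀ l, ∀ v ∈ fac M.toNatV l, v ≠ 1 → ∀ g ∈ KK v, g * e = e * g

end basics

/-- `V_i` is unmixed -/
def Unm {G : Type u} [Group G] [Finite G] {F : Type} [Field F] [Finite F] [CharP F 2] {S : Sylow 2 G}
    {P V D : Subgroup G} {k : ℕ} (M : NatD F S P V D k) (i : Fin k) : Prop :=
  ∃ g ∈ normalizer (line M.toNatV i : Set G), ∃ v ∈ fac M.toNatV i, ∃ w ∈ fac M.toNatV i,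
    v * (g * w * g⁻¹) ≠ g * w * g⁻¹ * v

/-- CvBig, `q = 2` (no Sylow hypothesis): `W_v` moves `V_l` for all points `v ∈ V_l` (mixed or unmixed). -/
structure Sit0 {G : Type u} [Group G] [Finite G] {F : Type} [Field F] [Finite F] [CharP F 2] {S : Sylow 2 G}
    {P V D : Subgroup G} {k : ℕ} (M : NatD F S P V D k) (i : Fin k) : Prop where
  two : Nat.card F = 2
  k2 : 2 ≤ k
  cc : CCD M
  WV : ∀ l, ∀ v ∈ fac M.toNatV l, v ≠ 1 → ∃ g ∈ KK v, ∃ x ∈ fac M.toNatV l, g * x ≠ x * g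

/-- CvBig, `q = 2`, CASE 1: `T = N_S(V_i)` is a Sylow 2-subgroup of `C_G(v_i)`, `V_i` is unmixed. -/
structure Sit {G : Type u} [Group G] [Finite G] {F : Type} [Field F] [Finite F] [CharP F 2] {S : Sylow 2 G}
    {P V D : Subgroup G} {k : ℕ} (M : NatD F S P V D k) (i : Fin k) : Prop extends Sit0 M i where
  unm : Unm M i
  odd : ¬ 2 ∣ (stab M.toNatV i).relIndex (normalizer (line M.toNatV i : Set G))

section build

variable {G : Type u} [Group G] [Finite G] {F : Type} [Field F] [Finite F] [CharP F 2] {S : Sylow 2 G}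
  {P V D : Subgroup G} {k : ℕ} {M : NatD F S P V D k} {i : Fin k}

/-- `Sit0` from one conjugate of an element of `V_i` in `W_v` which moves `V_i` -/
theorem Sit0.of_KK (h2 : Nat.card F = 2) (hk : 2 ≤ k) (hC : CCD M) {v₀ : G} (hv₀ : v₀ ∈ fac M.toNatV i)
    (hv₀1 : v₀ ≠ 1) (hm : ∃ g ∈ KK v₀, ∃ x ∈ fac M.toNatV i, g * x ≠ x * g) : Sit0 M i := by
  refine ⟨h2, hk, hC, fun l v hv hv1 => ?_⟩
  obtain ⟨g, hg, a, ha, hne⟩ := hm
  obtain ⟨y, hy, hyv, hyi, -⟩ := exists_P_conj hv₀ hv₀1 hv hv1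
  refine ⟨y * g * y⁻¹, ?_, y * a * y⁻¹, (hyi a).1 ha, fun e => hne ?_⟩
  · have h2 := KK_conj (h := y) hg
    rwa [hyv] at h2
  · calc g * a = y⁻¹ * (y * g * y⁻¹ * (y * a * y⁻¹)) * y := by group
      _ = a * g := by rw [e]; group

/-- `W_v` moves `V_l` for all points `v ∈ V_l`, if `V_i` is unmixed -/
theorem Sit0.of_unm (h2 : Nat.card F = 2) (hk : 2 ≤ k) (hC : CCD M) (hu : Unm M i) : Sit0 M i := by
  obtain ⟨v₀, hv₀, hv₀1⟩ := exists_line M i
  obtain ⟨g, hg, a, ha, b, hb, hne⟩ := hu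
  rw [normalizer_line_eq h2 hv₀ hv₀1] at hg
  refine Sit0.of_KK (i := i) h2 hk hC (line_le _ i hv₀) hv₀1 ⟨g * b * g⁻¹, ?_, a, ha, fun e => hne e.symm⟩
  have h2 := KK_conj (h := g) (V_le_KK_line hC h2 hv₀ hv₀1 (NV.fac_le _ i hb))
  rwa [conj_of_comm (mem_cent.1 hg)] at h2

/-- the index `i` does not matter -/
theorem Sit0.idx (h : Sit0 M i) (j : Fin k) : Sit0 M j := ⟨h.two, h.k2, h.cc, h.WV⟩

end build

namespace Sit0

variable {G : Type u} [Group G] [Finite G] {F : Type} [Field F] [Finite F] [CharP F 2] {S : Sylow 2 G}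
  {P V D : Subgroup G} {k : ℕ} {M : NatD F S P V D k} {i : Fin k} (h : Sit0 M i)
include h

theorem c2 : IsCharacteristicTwoType G := M.hG

theorem par : IsParS (S : Subgroup G) P := M.star

theorem SP : (S : Subgroup G) ≤ P := NV.SP M

theorem T2 : IsPGroup 2 (stab M.toNatV i) := S.isPGroup'.to_le (stab_le _ i)

theorem TP : stab M.toNatV i ≤ P := (stab_le _ i).trans h.SP

theorem sqV {v : G} (hv : v ∈ V) : v * v = 1 := mul_self_zc (V_le_zz M hv)

/-- **428's frame** -/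
theorem fr : Fr (⨆ l, fac M.toNatV l) (fac M.toNatV) := by
  have hle : (⨆ l, fac M.toNatV l) ≤ V := iSup_le fun l => NV.fac_le _ l
  have hsq : ∀ x ∈ V, x * x = 1 := fun x hx => h.sqV hx
  have hc2 : ∀ l, ∀ v ∈ fac M.toNatV l, v ≠ 1 → cz v ⊓ centralizer (qz v : Set G) ≤ qz v := fun l v hv hv1 =>
    Big.Supply.cz_char2 h.c2 (hsq v (NV.fac_le _ l hv)) hv1
  refine
    { S2 := isPGroup_of_sq fun x hx => hsq x (hle hx)
      sq := fun l x hx => hsq x (NV.fac_le _ l hx)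
      comm := fun l m x hx y hy => NV.comm M.toNatV hx.1 hy.1
      four := fun l => by rw [card_fac, h.two]; norm_num
      Qc := fun l m hlm v hv hv1 q hq x hx => qz_comm h.cc hlm hv hv1 hq hx
      VQ := fun l m v hv hv1 => ?_
      WV := h.WV
      c2 := hc2
      perm := fun s hs l => ⟨l, fun x => ?_⟩
      zS := ZN.zc_le _ }
  · intro x hx
    exact KK_le_o2 (hsq v (NV.fac_le _ l hv)) (hc2 l v hv hv1)
      (zl_le_KK h.cc h.two hv hv1 (M.V_le (NV.fac_le _ m hx)))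
  · have hsV := hle hs
    constructor
    · intro hx
      rw [NV.comm M.toNatV hsV hx.1, mul_inv_cancel_right]
      exact hx
    · intro hx
      have h1 := NV.comm M.toNatV (inv_mem hsV) hx.1
      have e : x = s⁻¹ * (s * x * s⁻¹) * s := by group
      rw [e, h1, inv_mul_cancel_right]
      exact hx

/-- an element of `P` which commutes with all factors centralises `Ω₁Z(O₂(P))` -/
theorem comm_of_fac {x z : G} (hx : x ∈ P) (hxV : ∀ l, ∀ v ∈ fac M.toNatV l, x * v = v * x)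
    (hz : z ∈ zc (o2 P)) : x * z = z * x := by
  refine comm_zz M hx (fun v hv => ?_) hz
  have h1 : (⨆ l, fac M.toNatV l) ≤ centralizer ({x} : Set G) :=
    iSup_le fun l w hw => mem_cent.2 (hxV l w hw).symm
  exact (mem_cent.1 (h1 (V_le_iSup hv))).symm

/-- the action of `Q_v` on `Ω₁Z(O₂(P))`: trivial or that of `a ∈ W_v` -/
theorem q_dich {l : Fin k} {v b a : G} (hv : v ∈ fac M.toNatV l) (hv1 : v ≠ 1) (hb : b ∈ fac M.toNatV l)
    (hb1 : b ≠ 1) (hvb : v ≠ b) (ha : a ∈ KK v) (hab : a * b * a⁻¹ = v * b) {r : G} (hr : r ∈ qz v) :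
    (∀ z ∈ zc (o2 P), r * z = z * r) ∨ ∀ z ∈ zc (o2 P), r * a * z = z * (r * a) := by
  have hfr := h.fr
  have hQP := q_le_P h.cc hv hv1
  have haQ : a ∈ qz v := hfr.KK_le_q hv hv1 ha
  have hbK : b ∈ KK v := zl_le_KK h.cc h.two hv hv1 (M.V_le (NV.fac_le _ l hb))
  have hact : ∀ r ∈ qz v, r * b * r⁻¹ = b ∨ r * b * r⁻¹ = v * b := by
    intro r hr
    rcases hfr.KK_act hv hbK hr with h1 | h1
    · left
      have h2 := comm_of_conj h1
      rw [← h2]; group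
    · right
      have h2 : b * r = v * r * b := by rw [← h1]; group
      have h3 : r * v = v * r := (mem_cent.1 ((o2_le _) hr))
      have h4 : v * v = 1 := hfr.sq l v hv
      have h5 : r * b = v * (b * r) := by
        rw [h2]
        calc r * b = (v * v) * r * b := by rw [h4, one_mul]
          _ = v * (v * r * b) := by group
      rw [h5]; group
  have hbV : ∀ r ∈ qz v, r * b = b * r → ∀ m, ∀ w ∈ fac M.toNatV m, r * w = w * r := by
    intro r hr hrb m x hx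
    by_cases hl : m = l
    · subst hl
      have h3 : r * v = v * r := (mem_cent.1 ((o2_le _) hr))
      rcases hfr.cases4 hv hb hv1 hb1 hvb hx with rfl | rfl | rfl | rfl
      · simp
      · exact h3
      · exact hrb
      · calc r * (v * b) = (r * v) * b := by group
          _ = v * (r * b) := by rw [h3]; group
          _ = v * b * r := by rw [hrb]; group
    · exact hfr.Qc l m hl v hv hv1 r hr x hx
  rcases hact r hr with h1 | h1
  · left
    intro z hz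
    exact h.comm_of_fac (hQP hr) (hbV r hr (comm_of_conj h1)) hz
  · right
    intro z hz
    have hra : r * a ∈ qz v := mul_mem hr haQ
    refine h.comm_of_fac (hQP hra) (hbV _ hra ?_) hz
    apply comm_of_conj
    have h3 : r * v = v * r := (mem_cent.1 ((o2_le _) hr))
    have h4 : v * v = 1 := hfr.sq l v hv
    calc r * a * b * (r * a)⁻¹ = r * (a * b * a⁻¹) * r⁻¹ := by group
      _ = (r * v) * b * r⁻¹ := by rw [hab]; group
      _ = v * (r * b * r⁻¹) := by rw [h3]; group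
      _ = (v * v) * b := by rw [h1]; group
      _ = b := by rw [h4, one_mul]

/-- **`Ω₁Z(O₂(P)) ≤ Q_v`** -/
theorem zz_q {l : Fin k} {v : G} (hv : v ∈ fac M.toNatV l) (hv1 : v ≠ 1) : zc (o2 P) ≤ qz v := by
  have hfr := h.fr
  have hfact : Fact (Nat.Prime 2) := ⟨Nat.prime_two⟩
  have hzn : P ≤ normalizer (zc (o2 P) : Set G) := zz_nor P
  have hVz : V ≤ zc (o2 P) := V_le_zz M
  have hzab := MinSimple.VModule.zc_comm (o2 P)
  have hzsq : ∀ z ∈ zc (o2 P), z * z = 1 := fun z hz => mul_self_zc hz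
  have hQP := q_le_P h.cc hv hv1
  have hzC : zc (o2 P) ≤ cz v := fun z hz => mem_cent.2 (hzab z hz v (hVz (NV.fac_le _ l hv)))
  obtain ⟨b, hb, hb1, hvb⟩ := hfr.exists_other (i := l) v
  obtain ⟨a, ha, hab⟩ := hfr.move hv hb hv1 hb1 hvb
  have haQ : a ∈ qz v := hfr.KK_le_q hv hv1 ha
  have hr2 := fun r (hr : r ∈ qz v) => h.q_dich hv hv1 hb hb1 hvb ha hab hr
  have haa : ∀ z ∈ zc (o2 P), a * a * z = z * (a * a) := by
    intro z hz
    rcases hr2 a haQ with h1 | h1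
    · calc a * a * z = a * (a * z) := by group
        _ = a * (z * a) := by rw [h1 z hz]
        _ = (a * z) * a := by group
        _ = (z * a) * a := by rw [h1 z hz]
        _ = z * (a * a) := by group
    · exact h1 z hz
  have haz : ∀ z ∈ zc (o2 P), a * z * a⁻¹ ∈ zc (o2 P) := fun z hz => conj_mem hzn (hQP haQ) hz
  have hat : ∀ z ∈ zc (o2 P), a * (a * z * a⁻¹ * z⁻¹) = a * z * a⁻¹ * z⁻¹ * a := by
    intro z hz
    have h1 := haa z hz
    have h2 : a * (a * z * a⁻¹) * a⁻¹ = z := by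
      calc a * (a * z * a⁻¹) * a⁻¹ = (a * a * z) * (a * a)⁻¹ := by group
        _ = z := by rw [h1]; group
    have h3 : a * (a * z * a⁻¹ * z⁻¹) * a⁻¹ = a * z * a⁻¹ * z⁻¹ := by
      have h5 : (a * z * a⁻¹)⁻¹ = a * z * a⁻¹ := inv_eq_of_mul_eq_one_left (hzsq _ (haz z hz))
      have h6 : z⁻¹ = z := inv_eq_of_mul_eq_one_left (hzsq _ hz)
      calc a * (a * z * a⁻¹ * z⁻¹) * a⁻¹ = (a * (a * z * a⁻¹) * a⁻¹) * (a * z * a⁻¹)⁻¹ := by group
        _ = z * (a * z * a⁻¹) := by rw [h2, h5]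
        _ = (a * z * a⁻¹) * z := hzab _ hz _ (haz z hz)
        _ = a * z * a⁻¹ * z⁻¹ := by rw [h6]
    exact comm_of_conj h3
  have htZ : ∀ z ∈ zc (o2 P), a * z * a⁻¹ * z⁻¹ ∈ qz v ⊓ centralizer ((qz v : Subgroup G) : Set G) := by
    intro z hz
    have ht : a * z * a⁻¹ * z⁻¹ ∈ zc (o2 P) := mul_mem (haz z hz) (inv_mem hz)
    have hcen : a * z * a⁻¹ * z⁻¹ ∈ centralizer ((qz v : Subgroup G) : Set G) := by
      rw [mem_centralizer_iff]
      intro r hr
      rcases hr2 r hr with h1 | h1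
      · exact h1 _ ht
      · have h2 := h1 _ ht
        have h3 := hat z hz
        have h4 : r * (a * z * a⁻¹ * z⁻¹) * a = a * z * a⁻¹ * z⁻¹ * r * a := by
          calc r * (a * z * a⁻¹ * z⁻¹) * a = r * (a * z * a⁻¹ * z⁻¹ * a) := by group
            _ = r * a * (a * z * a⁻¹ * z⁻¹) := by rw [← h3]; group
            _ = a * z * a⁻¹ * z⁻¹ * r * a := by rw [h2]; group
        exact mul_right_cancel h4
    exact ⟨hfr.c2 l v hv hv1 ⟨hzC ht, hcen⟩, hcen⟩
  refine Big.Syl.le_o2_of_chain (hfr.c2 l v hv hv1) hzC (fun z hz r hr => ?_) (fun z hz y hy => ?_)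
  · rcases hr2 r hr with h1 | h1
    · have e : z * r * z⁻¹ * r⁻¹ = 1 := by rw [← h1 z hz]; group
      rw [e]
      exact one_mem _
    · have h2 := h1 z hz
      have h3 : z * r * z⁻¹ * r⁻¹ = r * (a * z * a⁻¹ * z⁻¹) * r⁻¹ := by
        calc z * r * z⁻¹ * r⁻¹ = (z * (r * a)) * a⁻¹ * z⁻¹ * r⁻¹ := by group
          _ = r * (a * z * a⁻¹ * z⁻¹) * r⁻¹ := by rw [← h2]; group
      rw [h3]
      have h4 := htZ z hz
      have h5 : r * (a * z * a⁻¹ * z⁻¹) * r⁻¹ = a * z * a⁻¹ * z⁻¹ := by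
        rw [mem_centralizer_iff.1 h4.2 r hr, mul_inv_cancel_right]
      rw [h5]
      exact h4
  · have h1 : ∀ m, ∀ w ∈ fac M.toNatV m, y * w = w * y := fun m w hw => by
      have hwQ : w ∈ qz v := hfr.VQ l m v hv hv1 hw
      exact (mem_centralizer_iff.1 hy.2 w hwQ).symm
    exact (h.comm_of_fac (hQP hy.1) h1 hz).symm

theorem o2_le_stab : o2 P ≤ stab M.toNatV i := by
  refine le_inf (o2_le_S M) (norm_of fun x hx v hv => ?_)
  rw [((ZN.mem_zc.1 (V_le_zz M (NV.fac_le _ i hv))).2.1 x hx), mul_inv_cancel_right]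
  exact hv

theorem zc_le : zc (stab M.toNatV i) ≤ zc (o2 P) := Big.Syl.zc_le_zz h.c2 h.par h.o2_le_stab h.TP

theorem norm_line {v : G} (hv : v ∈ line M.toNatV i) (hv1 : v ≠ 1) :
    normalizer (line M.toNatV i : Set G) = cz v := normalizer_line_eq h.two hv hv1

/-- `X_l ≤ N(line M i)` for `l ≠ i` -/
theorem KK_le_norm {l : Fin k} (hl : l ≠ i) {v : G} (hv : v ∈ fac M.toNatV l) (hv1 : v ≠ 1) :
    KK v ≤ normalizer (line M.toNatV i : Set G) := by
  obtain ⟨w, hw, hw1⟩ := exists_line M i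
  rw [h.norm_line hw hw1]
  exact h.fr.KK_le hl.symm hv hv1 (line_le _ i hw)

/-- `e ∈ Ω₁Z(T)` centralised by `X_i` is in `D^`, or some `V_l`, `l ≠ i`, lies in every subgroup which contains `e`
and is normalised by `N(line M i)`. -/
theorem exists_le {e : G} (he : e ∈ zc (o2 P))
    (hX : ∀ v ∈ fac M.toNatV i, v ≠ 1 → ∀ g ∈ KK v, g * e = e * g) :
    Cen M e ∨ ∃ l, l ≠ i ∧ ∀ Λ : Subgroup G, normalizer (line M.toNatV i : Set G) ≤ normalizer (Λ : Set G) →
      e ∈ Λ → fac M.toNatV l ≤ Λ := by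
  by_contra hcon
  push Not at hcon
  obtain ⟨hcon1, hcon⟩ := hcon
  apply hcon1
  refine ⟨he, fun l v hv hv1 g hg => ?_⟩
  by_cases hl : l = i
  · subst hl
    exact hX v hv hv1 g hg
  by_contra hge
  obtain ⟨Λ, hΛ, heΛ, hnot⟩ := hcon l hl
  apply hnot
  have hv' : v ∈ Λ := by
    have h1 : g * e * g⁻¹ ∈ Λ := conj_mem hΛ (h.KK_le_norm hl hv hv1 hg) heΛ
    rcases h.fr.KK_act hv hg (h.zz_q hv hv1 he) with h2 | h2
    · exact (hge (comm_of_conj h2)).elim
    · rw [h2] at h1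
      exact (mul_mem_cancel_right heΛ).1 h1
  intro w hw
  by_cases hw1 : w = 1
  · rw [hw1]; exact one_mem _
  by_cases hwv : w = v
  · rw [hwv]; exact hv'
  obtain ⟨g', hg', h3⟩ := h.fr.move hw hv hw1 hv1 hwv
  have h4 : g' * v * g'⁻¹ ∈ Λ := conj_mem hΛ (h.KK_le_norm hl hw hw1 hg') hv'
  rw [h3] at h4
  exact (mul_mem_cancel_right hv').1 h4

theorem T_V : stab M.toNatV i ≤ normalizer (fac M.toNatV i : Set G) := stab_normalizes _ i

theorem V_le_T : V ≤ stab M.toNatV i := (V_le_zz M).trans ((ZN.zc_le _).trans h.o2_le_stab)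

theorem V_T : fac M.toNatV i ≤ stab M.toNatV i := (NV.fac_le _ i).trans h.V_le_T

theorem T_comm {v : G} (hv : v ∈ line M.toNatV i) {t : G} (ht : t ∈ stab M.toNatV i) : t * v = v * t :=
  stab_comm_line h.two hv ht

theorem T_cz {v : G} (hv : v ∈ line M.toNatV i) : stab M.toNatV i ≤ cz v := fun _ ht => mem_cent.2 (h.T_comm hv ht)

/-- `O₂(C(v)) ≤ T` -/
theorem q_T {v : G} (hv : v ∈ line M.toNatV i) (hv1 : v ≠ 1) : qz v ≤ stab M.toNatV i := (qz_le_stab h.cc hv hv1).1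

end Sit0

namespace Sit

variable {G : Type u} [Group G] [Finite G] {F : Type} [Field F] [Finite F] [CharP F 2] {S : Sylow 2 G}
  {P V D : Subgroup G} {k : ℕ} {M : NatD F S P V D k} {i : Fin k} (h : Sit M i)
include h

theorem odd' {v : G} (hv : v ∈ line M.toNatV i) (hv1 : v ≠ 1) : ¬ 2 ∣ (stab M.toNatV i).relIndex (cz v) := by
  rw [← h.norm_line hv hv1]; exact h.odd

/-- **(OT)** of #17249: `O₂(H)` centralises `V_i` for every `H ≥ ⟨T, D⟩`, `D ≤ N(V_i)` transitive on `V_i#`. -/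
theorem ot {H X : Subgroup G} (hTH : stab M.toNatV i ≤ H) (hDH : X ≤ H) (hDV : X ≤ normalizer (fac M.toNatV i : Set G))
    (hD : ∀ v ∈ fac M.toNatV i, ∀ w ∈ fac M.toNatV i, v ≠ 1 → w ≠ 1 → ∃ d ∈ X, d * v * d⁻¹ = w) :
    ZN.o2 H ≤ centralizer (fac M.toNatV i : Set G) := by
  have hfact : Fact (Nat.Prime 2) := ⟨Nat.prime_two⟩
  obtain ⟨v, hv, hv1⟩ := exists_line M i
  have hvi := line_le _ i hv
  have hO2 : IsPGroup 2 (ZN.o2 H) := o2_isPGroup H
  have hHO := le_normalizer_o2 H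
  -- `O ∩ N(V_i)` centralises `V_i`
  have hVT := h.V_T
  have hN : ZN.o2 H ⊓ normalizer (fac M.toNatV i : Set G) ≤ centralizer (fac M.toNatV i : Set G) := by
    set N := ZN.o2 H ⊓ normalizer (fac M.toNatV i : Set G) with hNdef
    have hN2 : IsPGroup 2 N := hO2.to_le inf_le_left
    have hDN : X ≤ normalizer (N : Set G) := by
      refine norm_of fun d hd x hx => ⟨conj_mem hHO (hDH hd) hx.1, ?_⟩
      exact mul_mem (mul_mem (hDV hd) hx.2) ((normalizer (fac M.toNatV i : Set G)).inv_mem (hDV hd))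
    have hV2 : IsPGroup 2 (fac M.toNatV i) := isPGroup_of_sq fun x hx => h.fr.sq i x hx
    have hne : fac M.toNatV i ≠ ⊥ := fun h0 => hv1 (by rwa [h0, mem_bot] at hvi)
    obtain ⟨w, hw, hw1, hwN⟩ := Half.exists_fixed hV2 hne hN2 inf_le_right
    intro x hx
    rw [mem_centralizer_iff]
    intro u hu
    by_cases hu1 : u = 1
    · rw [hu1, one_mul, mul_one]
    obtain ⟨d, hd, hdu⟩ := hD w hw u hu hw1 hu1
    have h1 : d⁻¹ * x * d ∈ N := by
      have := conj_mem hDN (inv_mem hd) hx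
      rwa [inv_inv] at this
    have h2 := comm_of_conj (hwN _ h1)
    rw [← hdu]
    calc d * w * d⁻¹ * x = d * (w * (d⁻¹ * x * d)) * d⁻¹ := by group
      _ = x * (d * w * d⁻¹) := by rw [← h2]; group
  -- `O_0 := O ∩ C(v)` is contained in `T` and centralises `V_i`
  set O₀ := ZN.o2 H ⊓ centralizer (fac M.toNatV i : Set G) with hO₀
  have hTn : stab M.toNatV i ≤ normalizer (fac M.toNatV i : Set G) := stab_normalizes _ i
  have hTO₀ : stab M.toNatV i ≤ normalizer (O₀ : Set G) := by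
    refine norm_of fun t ht x hx => ⟨conj_mem hHO (hTH ht) hx.1, ?_⟩
    exact (mem_normalizer_iff.1 (BTwo.normalizer_le_normalizer_centralizer _ (hTn ht)) x).1 hx.2
  have hT0 : ∀ x ∈ ZN.o2 H, x * v = v * x → x ∈ O₀ ∧ x ∈ stab M.toNatV i := by
    have hE2 : IsPGroup 2 (ZN.o2 H ⊓ cz v : Subgroup G) := hO2.to_le inf_le_left
    have hTv : stab M.toNatV i ≤ cz v := fun t ht => mem_cent.2 (stab_comm_line h.two hv ht)
    have hTE : stab M.toNatV i ≤ normalizer ((ZN.o2 H ⊓ cz v : Subgroup G) : Set G) := by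
      refine norm_of fun t ht x hx => ⟨conj_mem hHO (hTH ht) hx.1, ?_⟩
      exact mul_mem (mul_mem (hTv ht) hx.2) ((cz v).inv_mem (hTv ht))
    have hle : ZN.o2 H ⊓ cz v ≤ stab M.toNatV i := by
      refine HT.LemE.le_of_odd h.T2 hTv ?_ hE2 inf_le_right hTE
      rw [← h.norm_line hv hv1]
      exact h.odd
    intro x hx hxv
    have h1 : x ∈ stab M.toNatV i := hle ⟨hx, mem_cent.2 hxv⟩
    exact ⟨⟨hx, hN ⟨hx, hTn h1⟩⟩, h1⟩
  have hO₀T : O₀ ≤ stab M.toNatV i := fun x hx => (hT0 x hx.1 (mem_centralizer_iff.1 hx.2 v hvi).symm).2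
  -- suppose `O > O_0`
  by_contra hcon
  have hlt : O₀ < ZN.o2 H := by
    refine lt_of_le_of_ne inf_le_left fun e => hcon ?_
    rw [← e]
    exact inf_le_right
  have hlt2 := Lib.GoldschmidtFusion.lt_inf_normalizer hO2 hlt
  obtain ⟨w, hw, hwO₀, hwT⟩ := SideOf.exists_fixed_mod (T := stab M.toNatV i) (not_le_of_gt hlt2) inf_le_right
    (hO2.to_le inf_le_left) h.T2 hTO₀ (norm_of fun t ht x hx =>
      ⟨conj_mem hHO (hTH ht) hx.1, mul_mem (mul_mem (hTO₀ ht) hx.2)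
        ((normalizer (O₀ : Set G)).inv_mem (hTO₀ ht))⟩)
  have hwn : w ∈ normalizer (O₀ : Set G) := hw.2
  have hwn' : ∀ x ∈ O₀, w⁻¹ * x * w ∈ O₀ := fun x hx => by
    have := (mem_normalizer_iff.1 (inv_mem hwn) x).1 hx
    rwa [inv_inv] at this
  -- `T_* := C_T(V_i)`
  set Ts := stab M.toNatV i ⊓ centralizer (fac M.toNatV i : Set G) with hTs
  have hO₀Ts : O₀ ≤ Ts := le_inf hO₀T inf_le_right
  have hPTs : o2 P ≤ Ts := by
    refine le_inf h.o2_le_stab fun x hx => mem_centralizer_iff.2 fun u hu => ?_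
    exact ((ZN.mem_zc.1 (V_le_zz M (NV.fac_le _ i hu))).2.1 x hx).symm
  have hTsw : ∀ t ∈ Ts, w⁻¹ * t * w ∈ Ts := by
    intro t ht
    have h1 : t⁻¹ * w * t * w⁻¹ ∈ O₀ := by
      have := hwT t⁻¹ (inv_mem ht.1)
      rwa [inv_inv] at this
    have h2 := hwn' _ h1
    have e : w⁻¹ * t * w = t * (w⁻¹ * (t⁻¹ * w * t * w⁻¹) * w)⁻¹ := by group
    rw [e]
    exact mul_mem ht (inv_mem (hO₀Ts h2))
  have hTsw' : ∀ t ∈ Ts, w * t * w⁻¹ ∈ Ts := by
    intro t ht
    have h1 := hwT t ht.1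
    have e : w * t * w⁻¹ = (t * w * t⁻¹ * w⁻¹)⁻¹ * t := by group
    rw [e]
    exact mul_mem (inv_mem (hO₀Ts h1)) ht
  have hVTs : fac M.toNatV i ≤ Ts := le_inf hVT fun x hx => mem_centralizer_iff.2 fun u hu => h.fr.comm i i u hu x hx
  -- `V_i^w ≤ ZZ`
  have hwV : ∀ b ∈ fac M.toNatV i, w * b * w⁻¹ ∈ zc (o2 P) := by
    intro b hb
    refine Big.Syl.zc_le_zz h.c2 h.par hPTs (inf_le_left.trans h.TP) (ZN.mem_zc.2 ⟨hTsw' b (hVTs hb), fun t ht => ?_, ?_⟩)
    · have h1 := mem_centralizer_iff.1 (hTsw t ht).2 b hb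
      calc t * (w * b * w⁻¹) = w * ((w⁻¹ * t * w) * b) * w⁻¹ := by group
        _ = w * b * w⁻¹ * t := by rw [← h1]; group
    · rw [pow_two]
      calc w * b * w⁻¹ * (w * b * w⁻¹) = w * (b * b) * w⁻¹ := by group
        _ = 1 := by rw [h.fr.sq i b hb]; group
  obtain ⟨b, hb, hb1, hvb⟩ := h.fr.exists_other (i := i) v
  obtain ⟨a, ha, hab⟩ := h.fr.move hvi hb hv1 hb1 hvb
  have haT : a ∈ stab M.toNatV i := h.q_T hv hv1 (h.fr.KK_le_q hvi hv1 ha)
  have ho : w * a * w⁻¹ * a⁻¹ ∈ O₀ := by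
    have h1 := inv_mem (hwT a haT)
    have e : (a * w * a⁻¹ * w⁻¹)⁻¹ = w * a * w⁻¹ * a⁻¹ := by group
    rwa [e] at h1
  have hOy : ∀ o ∈ O₀, o * (w * b * w⁻¹) = w * b * w⁻¹ * o := by
    intro o ho
    have h1 := mem_centralizer_iff.1 (hwn' o ho).2 b hb
    calc o * (w * b * w⁻¹) = w * ((w⁻¹ * o * w) * b) * w⁻¹ := by group
      _ = w * b * w⁻¹ * o := by rw [← h1]; group
  have hOv : ∀ o ∈ O₀, o * v = v * o := fun o ho => (mem_centralizer_iff.1 ho.2 v hvi).symm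
  have key : w * v * w⁻¹ = (w * a * w⁻¹ * a⁻¹) * (a * (w * b * w⁻¹) * a⁻¹) * (w * a * w⁻¹ * a⁻¹)⁻¹ *
      (w * b * w⁻¹)⁻¹ := by
    have e : v = a * b * a⁻¹ * b⁻¹ := by rw [hab, mul_inv_cancel_right]
    calc w * v * w⁻¹ = w * (a * b * a⁻¹ * b⁻¹) * w⁻¹ := by rw [← e]
      _ = _ := by group
  rcases h.fr.KK_act hvi ha (h.zz_q hvi hv1 (hwV b hb)) with h1 | h1
  · rw [h1, hOy _ ho, mul_inv_cancel_right, mul_inv_cancel] at key
    exact hv1 (by
      calc v = w⁻¹ * (w * v * w⁻¹) * w := by group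
        _ = 1 := by rw [key]; group)
  · rw [h1] at key
    have h2 : (w * a * w⁻¹ * a⁻¹) * (v * (w * b * w⁻¹)) = v * (w * b * w⁻¹) * (w * a * w⁻¹ * a⁻¹) := by
      calc (w * a * w⁻¹ * a⁻¹) * (v * (w * b * w⁻¹)) = ((w * a * w⁻¹ * a⁻¹) * v) * (w * b * w⁻¹) := by group
        _ = v * ((w * a * w⁻¹ * a⁻¹) * (w * b * w⁻¹)) := by rw [hOv _ ho]; group
        _ = _ := by rw [hOy _ ho]; group
    rw [h2, mul_inv_cancel_right, mul_inv_cancel_right] at key
    exact hwO₀ (hT0 w hw.1 (comm_of_conj key)).1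

end Sit

end Cfsg.Agent.Omega.IId.NV.BigD
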