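import Cfsg.Agent.Omega.IId.BigD.Frame
import Cfsg.Agent.Omega.IId.Big.Syl.LemE
import Cfsg.Agent.Omega.HT.EndCore

/-!
# CvBig, `q = 2`, CASE 1: the instance `HTT` over `T = stab M i` and the end

* `Sit.exists_swap` : a second index `j` with `stab M j = stab M i`;
* `Ins M i R o` : `Sit M i` with the points `R` of `V_i` (`BTS`);
* `Ins.htt` : `HTT T (T ⊔ X_i) V_i R o`; `Ins.hLE` : LEMMA E; `Ins.cen_of_sig`;
* `Sit.false_of` : `D ≠ 1` or `k > 2` is impossible.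
-/

set_option autoImplicit false
set_option linter.unusedSectionVars false

namespace Cfsg.Agent.Omega.IId.NV.BigD

open Subgroup Pointwise Cfsg Cfsg.Agent.ZN Cfsg.Agent.ZN.ChoiceBase
open Cfsg.Agent.Omega.MinPar Cfsg.Agent.Omega.FFThm
open Cfsg.Agent.MinSimple.VModule (o2_isPGroup)
open Cfsg.Agent.Omega.IId.NV
open Cfsg.Agent.Omega.IId.Big (Fr Vo conj_mem norm_of comm_of_conj conj_of_comm isPGroup_of_sq le_Vo Vo_le
  cent_of_closure KK_le_XX XX_le)
open Triangle (KK KK_conj KK_le_o2 mem_cent mem_KK mem_zpowers_iff_of_sq cent_conj o2_cent_conj)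
open Cfsg.Agent.Omega.BTwo (BT BTS WW QQ CenX pt)
open Cfsg.Agent.Omega.NatPair (NatMod PreMod)

universe u

local notation "cz" v:max => centralizer ({v} : Set _)
local notation "qz" v:max => ZN.o2 (centralizer ({v} : Set _))

/-! ### `⟨W_v : v ∈ V_i#⟩` -/

section gen

variable {G : Type u} [Group G] [Finite G] {ι : Type} {S : Subgroup G} {V : ι → Subgroup G}

/-- `⟨KK v : v ∈ V_i#⟩ ≤ N(V_i)` -/
theorem XX_V (h : Fr S V) (i : ι) : Big.XX V i ≤ normalizer (V i : Set G) := by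
  refine XX_le fun v hv hv1 => norm_of fun g hg x hx => ?_
  rcases h.KK_act hv hg (h.VQ i i v hv hv1 hx) with h1 | h1
  · rw [h1]; exact hx
  · rw [h1]; exact mul_mem hv hx

/-- `⟨KK v : v ∈ V_i#⟩` is transitive on `V_i#` -/
theorem XX_trans (h : Fr S V) {i : ι} {v w : G} (hv : v ∈ V i) (hw : w ∈ V i)
    (hv1 : v ≠ 1) (hw1 : w ≠ 1) : ∃ d ∈ Big.XX V i, d * v * d⁻¹ = w := by
  by_cases hvw : v = w
  · exact ⟨1, one_mem _, by rw [hvw]; group⟩
  have h2 := h.sq i v hv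
  have h1 : w * v ≠ 1 := fun h0 => hvw (by
    have : v = w⁻¹ := eq_inv_of_mul_eq_one_right h0
    rw [this]
    exact inv_eq_of_mul_eq_one_left (h.sq i w hw))
  have h3 : w * v ≠ v := fun h0 => hw1 (mul_eq_right.1 h0)
  obtain ⟨g, hg, e⟩ := h.move (mul_mem hw hv) hv h1 hv1 h3
  refine ⟨g, KK_le_XX (mul_mem hw hv) h1 hg, ?_⟩
  rw [e, mul_assoc, h2, mul_one]

end gen

section frame

variable {G : Type u} [Group G] [Finite G] {F : Type} [Field F] [Finite F] [CharP F 2] {S : Sylow 2 G}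
  {P V D : Subgroup G} {k : ℕ} {M : NatD F S P V D k}

theorem part_le_of {I : Set (Fin k)} {B : Subgroup G} (h : ∀ l ∈ I, fac M.toNatV l ≤ B) :
    part M.toNatV I ≤ B := by
  classical
  have key : ∀ s : Finset (Fin k), (∀ l ∈ s, fac M.toNatV l ≤ B) → part M.toNatV (s : Set (Fin k)) ≤ B := by
    intro s
    induction s using Finset.induction_on with
    | empty => intro _; rw [Finset.coe_empty, part_empty]; exact bot_le
    | insert a t hat ih =>
      intro hs v hv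
      obtain ⟨x, hx, hxa⟩ := exists_fac M.toNatV a (M.e v a)
      have h1 : v * x⁻¹ ∈ part M.toNatV (t : Set (Fin k)) := by
        refine (mem_part _).2 ⟨mul_mem hv.1 (inv_mem hx.1), fun j hj => ?_⟩
        rw [M.mul _ hv.1 _ (inv_mem hx.1), e_inv M.toNatV hx.1, Pi.add_apply, Pi.neg_apply]
        by_cases hja : j = a
        · rw [hja, hxa]; simp
        · have h2 := ((mem_part _).1 hv).2 j (by
            rw [Finset.coe_insert]
            rintro (h | h)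
            · exact hja h
            · exact hj h)
          rw [h2, hx.2 j hja]; simp
      have h3 : v = v * x⁻¹ * x := by group
      rw [h3]
      exact mul_mem (ih (fun l hl => hs l (Finset.mem_insert_of_mem hl)) h1)
        (hs a (Finset.mem_insert_self _ _) hx)
  have h1 := key (Set.toFinite I).toFinset (fun l hl => h l ((Set.Finite.mem_toFinset _).1 hl))
  rwa [Set.Finite.coe_toFinset] at h1

namespace Sit0

variable {i : Fin k} (h : Sit0 M i)
include h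

/-- `W_v`, `v ∈ V_l`, centralises `V^l` -/
theorem KK_part {l : Fin k} {v g x : G} (hv : v ∈ fac M.toNatV l) (hv1 : v ≠ 1) (hg : g ∈ KK v)
    (hx : x ∈ part M.toNatV {l}ᶜ) : g * x = x * g := by
  have h1 : part M.toNatV {l}ᶜ ≤ cz g := part_le_of fun m hm y hy =>
    mem_cent.2 (h.fr.Qc l m hm v hv hv1 g (h.fr.KK_le_q hv hv1 hg) y hy).symm
  exact (mem_cent.1 (h1 hx)).symm

/-- an element of `V` centralised by all `W_v` is trivial -/
theorem eq_one_of_cen {x : G} (hx : x ∈ V) (hc : Cen M x) : x = 1 := by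
  by_contra hx1
  obtain ⟨l, hl⟩ : ∃ l, M.e x l ≠ 0 := by
    by_contra hcon
    push Not at hcon
    exact hx1 ((e_eq_zero M.toNatV hx).1 (funext hcon))
  obtain ⟨a, ha, hea, hb⟩ := exists_component M.toNatV hx l
  have ha1 : a ≠ 1 := fun h0 => hl (by rw [← hea]; exact (fac_eq_one M.toNatV ha).2 h0)
  obtain ⟨v, hv, hv1, hav⟩ := h.fr.exists_other (i := l) a
  obtain ⟨g, hg, hga⟩ := h.fr.move hv ha hv1 ha1 (Ne.symm hav)
  have h1 := hc.2 l v hv hv1 g hg
  have h2 := h.KK_part hv hv1 hg hb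
  have h3 : g * a = a * g := by
    have h4 : g * a * (a⁻¹ * x) = a * g * (a⁻¹ * x) := by
      calc g * a * (a⁻¹ * x) = g * x := by group
        _ = x * g := h1
        _ = a * (a⁻¹ * x * g) := by group
        _ = a * g * (a⁻¹ * x) := by rw [← h2]; group
    exact mul_right_cancel h4
  rw [h3, mul_inv_cancel_right] at hga
  exact hv1 (mul_eq_right.1 hga.symm)

/-- an element of `V_i` fixed by `T` is in the line -/
theorem eq_of_fixed {v x : G} (hv : v ∈ line M.toNatV i) (hv1 : v ≠ 1) (hx : x ∈ fac M.toNatV i)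
    (hxT : ∀ t ∈ stab M.toNatV i, t * x = x * t) : x = 1 ∨ x = v :=
  eq_of_line h.two hv hv1 (fix_le_line M.toNatV h.SP hx hxT)

/-- `line M i ≤ zc T` -/
theorem line_zc : line M.toNatV i ≤ zc (stab M.toNatV i) := by
  intro v hv
  exact ZN.mem_zc.2 ⟨h.V_T (line_le _ i hv), fun t ht => h.T_comm hv ht, by
    rw [pow_two]; exact h.fr.sq i v (line_le _ i hv)⟩

/-- **The element `z`** for `k > 2`, `D = 1`. -/
theorem exists_z (hk : 2 < k) (hD : D = ⊥) {j : Fin k} (hij : j ≠ i) (hT : stab M.toNatV j = stab M.toNatV i) :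
    ∃ z ∈ zc (stab M.toNatV i), z ≠ 1 ∧ z ∈ part M.toNatV {i}ᶜ ∧ z ∈ part M.toNatV {j}ᶜ := by
  have hfact : Fact (Nat.Prime 2) := ⟨Nat.prime_two⟩
  obtain ⟨v, hv, hv1⟩ := exists_line M i
  have hSP := h.SP
  have hSne : (S : Subgroup G) ≠ ⊥ := by
    intro h0
    have h1 := stab_le _ i (h.V_T (line_le _ i hv))
    rw [h0, mem_bot] at h1
    exact hv1 h1
  obtain ⟨z₀, hz₀, hz₀1⟩ := (Subgroup.bot_or_exists_ne_one _).resolve_left
    (zc_ne_bot S.isPGroup' hSne)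
  have hz₀c := ZN.mem_zc.1 hz₀
  have hz₀V : z₀ ∈ V := by
    obtain ⟨n, hn, d, hd, hnd⟩ := M.dec z₀ (zc_le_zl hz₀)
    rw [hD, mem_bot] at hd
    rw [hnd, hd, mul_one]
    exact hn
  have hz₀T : ∀ t ∈ stab M.toNatV i, t * z₀ = z₀ * t := fun t ht => hz₀c.2.1 t (stab_le _ i ht)
  obtain ⟨a, ha, hea, -⟩ := exists_component M.toNatV hz₀V i
  obtain ⟨a', ha', hea', -⟩ := exists_component M.toNatV hz₀V j
  have haT : ∀ t ∈ stab M.toNatV i, t * a = a * t := fun t ht =>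
    component_cent M.toNatV hSP hz₀V ha hea ht (hz₀T t ht)
  have haT' : ∀ t ∈ stab M.toNatV i, t * a' = a' * t := fun t ht =>
    component_cent M.toNatV hSP hz₀V ha' hea' (hT.symm ▸ ht) (hz₀T t ht)
  have hinv : ∀ {x t : G}, t * x = x * t → t * x⁻¹ = x⁻¹ * t := fun {x t} hx => by
    rw [eq_inv_mul_iff_mul_eq, ← mul_assoc, ← hx, mul_inv_cancel_right]
  have hzV : a'⁻¹ * (a⁻¹ * z₀) ∈ V := mul_mem (inv_mem ha'.1) (mul_mem (inv_mem ha.1) hz₀V)
  have he : ∀ l, M.e (a'⁻¹ * (a⁻¹ * z₀)) l = - M.e a' l + (- M.e a l + M.e z₀ l) := by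
    intro l
    rw [M.mul _ (inv_mem ha'.1) _ (mul_mem (inv_mem ha.1) hz₀V), M.mul _ (inv_mem ha.1) _ hz₀V,
      e_inv M.toNatV ha.1, e_inv M.toNatV ha'.1]
    rfl
  refine ⟨a'⁻¹ * (a⁻¹ * z₀), ZN.mem_zc.2 ⟨h.V_le_T hzV, fun t ht => ?_, ?_⟩, ?_, ⟨hzV, fun l hl => ?_⟩,
    ⟨hzV, fun l hl => ?_⟩⟩
  · calc t * (a'⁻¹ * (a⁻¹ * z₀)) = (t * a'⁻¹) * (a⁻¹ * z₀) := by group
      _ = a'⁻¹ * (t * a⁻¹) * z₀ := by rw [hinv (haT' t ht)]; group
      _ = a'⁻¹ * a⁻¹ * (t * z₀) := by rw [hinv (haT t ht)]; group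
      _ = a'⁻¹ * (a⁻¹ * z₀) * t := by rw [hz₀T t ht]; group
  · rw [pow_two]; exact h.sqV hzV
  · intro h0
    obtain ⟨l, hli, hlj⟩ : ∃ l : Fin k, l ≠ i ∧ l ≠ j := by
      by_contra hcon
      push Not at hcon
      have h1 : (Finset.univ : Finset (Fin k)) ⊆ {i, j} := by
        intro l _
        rw [Finset.mem_insert, Finset.mem_singleton]
        by_cases hl : l = i
        · exact Or.inl hl
        · exact Or.inr (hcon l hl)
      have h2 := (Finset.card_le_card h1).trans Finset.card_le_two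
      rw [Finset.card_univ, Fintype.card_fin] at h2
      omega
    have h1 := he l
    rw [h0, e_one, ha'.2 l hlj, ha.2 l hli] at h1
    apply hz₀1
    refine eq_one_of_cent M.toNatV hz₀V (fun s hs => hz₀c.2.1 s hs) (i := l) ?_
    simpa using h1.symm
  · have hli : l = i := by simpa using hl
    rw [he, hli, hea, ha'.2 i (Ne.symm hij)]
    simp
  · have hlj : l = j := by simpa using hl
    rw [he, hlj, hea', ha.2 j hij]
    simp

/-- **(zt)** : `a ∈ T` moves `b ∈ V_i` by `v` and fixes `Ω₁Z(C_T(V_i))` modulo `v`. -/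
theorem zt {v : G} (hv : v ∈ line M.toNatV i) (hv1 : v ≠ 1) : ∃ a ∈ stab M.toNatV i, ∃ b ∈ fac M.toNatV i,
    a * b * a⁻¹ = b * v ∧ ∀ c ∈ stab M.toNatV i, c * c = 1 →
      (∀ t ∈ stab M.toNatV i, t ∈ centralizer (fac M.toNatV i : Set G) → t * c = c * t) →
      a * c * a⁻¹ = c ∨ a * c * a⁻¹ = c * v := by
  have hvi := line_le _ i hv
  obtain ⟨b, hb, hb1, hvb⟩ := h.fr.exists_other (i := i) v
  obtain ⟨a, ha, hab⟩ := h.fr.move hvi hb hv1 hb1 hvb
  refine ⟨a, h.q_T hv hv1 (h.fr.KK_le_q hvi hv1 ha), b, hb, by rw [hab, h.fr.comm i i v hvi b hb], ?_⟩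
  intro c hc hc2 hcc
  set Ts := stab M.toNatV i ⊓ centralizer (fac M.toNatV i : Set G) with hTs
  have hPTs : o2 P ≤ Ts := by
    refine le_inf h.o2_le_stab fun x hx => mem_centralizer_iff.2 fun u hu => ?_
    exact ((ZN.mem_zc.1 (V_le_zz M (NV.fac_le _ i hu))).2.1 x hx).symm
  have hVTs : fac M.toNatV i ≤ Ts := le_inf h.V_T fun x hx => mem_centralizer_iff.2 fun u hu => h.fr.comm i i u hu x hx
  have hcV : c ∈ centralizer (fac M.toNatV i : Set G) :=
    mem_centralizer_iff.2 fun u hu => (hcc u (hVTs hu).1 (hVTs hu).2)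
  have hcz : c ∈ zc (o2 P) := Big.Syl.zc_le_zz h.c2 h.par hPTs (inf_le_left.trans h.TP)
    (ZN.mem_zc.2 ⟨⟨hc, hcV⟩, fun t ht => hcc t ht.1 ht.2, by rw [pow_two]; exact hc2⟩)
  have hcq := h.zz_q hvi hv1 hcz
  rcases h.fr.KK_act hvi ha hcq with h1 | h1
  · exact Or.inl h1
  · right
    rw [h1]
    exact (mem_cent.1 ((o2_le _) hcq)).symm

end Sit0

namespace Sit

variable {i : Fin k} (h : Sit M i)
include h

/-- **The swap**: `s ∈ N_S(T)`, `s ∉ T`, maps `V_i` to `V_j`, `j ≠ i`, and `N_S(V_j) = T`. -/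
theorem exists_swap : ∃ j, j ≠ i ∧ stab M.toNatV j = stab M.toNatV i ∧ Sit M j := by
  have hfact : Fact (Nat.Prime 2) := ⟨Nat.prime_two⟩
  have hSP := h.SP
  have hk := h.k2
  have hcard := card_stab M.toNatV hSP i
  have hlt : stab M.toNatV i < (S : Subgroup G) := by
    refine lt_of_le_of_ne (stab_le _ i) fun e => ?_
    have h1 : Nat.card (stab M.toNatV i) = k * Nat.card (stab M.toNatV i) := by
      nth_rewrite 1 [e]
      exact hcard
    have h2 : 0 < Nat.card (stab M.toNatV i) := Nat.card_pos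
    nlinarith
  obtain ⟨s, ⟨hs, hsn⟩, hsT⟩ := SetLike.exists_of_lt (Lib.GoldschmidtFusion.lt_inf_normalizer S.isPGroup' hlt)
  have e1 := conj_stab M.toNatV hSP hs (i := i)
  have e2 := conj_line M.toNatV hSP hs i
  have e3 := conj_fac M.toNatV (hSP hs) i
  rw [cj_eq_of_mem_normalizer hsn] at e1
  refine ⟨sg M.toNatV (hSP hs) i, fun h0 => hsT ⟨hs, (mem_normalizer_fac_iff M.toNatV (hSP hs)).2 h0⟩, e1.symm, ?_⟩
  refine { h with odd := ?_, unm := ?_ }
  · obtain ⟨g, hg, v, hv, w, hw, hne⟩ := h.unm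
    have hm : ∀ {v : G}, v ∈ fac M.toNatV i → s * v * s⁻¹ ∈ fac M.toNatV (sg M.toNatV (hSP hs) i) :=
      fun {v} hv => by
        rw [← e3, mem_cj_iff]
        have e : s⁻¹ * (s * v * s⁻¹) * s = v := by group
        rwa [e]
    refine ⟨s * g * s⁻¹, ?_, s * v * s⁻¹, hm hv, s * w * s⁻¹, hm hw, fun h => hne ?_⟩
    · rw [← e2, ← cj_normalizer, mem_cj_iff]
      have e : s⁻¹ * (s * g * s⁻¹) * s = g := by group
      rwa [e]
    · have e1 : s * v * s⁻¹ * (s * g * s⁻¹ * (s * w * s⁻¹) * (s * g * s⁻¹)⁻¹) = s * (v * (g * w * g⁻¹)) * s⁻¹ := by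
        group
      have e2 : s * g * s⁻¹ * (s * w * s⁻¹) * (s * g * s⁻¹)⁻¹ * (s * v * s⁻¹) = s * (g * w * g⁻¹ * v) * s⁻¹ := by
        group
      rw [e1, e2] at h
      exact mul_left_cancel (mul_right_cancel h)
  · rw [← e1, ← e2, ← cj_normalizer]
    have h3 : stab M.toNatV i ≤ normalizer (line M.toNatV i : Set G) := stab_normalizes_line M.toNatV hSP i
    have h4 := Half.card_mul_relIndex h3
    have h5 := Half.card_mul_relIndex (cj_mono s h3)
    rw [card_cj, card_cj, cj_eq_of_mem_normalizer hsn, ← h4] at h5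
    rw [Nat.eq_of_mul_eq_mul_left Nat.card_pos h5]
    exact h.odd

/-- **The entry to `BTS`.** -/
theorem exists_bts : ∃ N : NatMod F (fac M.toNatV i), N.line ![1, 0] = line M.toNatV i ∧
    BTS (fac M.toNatV i) (BTwo.pt N) := by
  obtain ⟨v₀, hv₀, hv₀1⟩ := exists_line M i
  obtain ⟨c, hc, hne⟩ := h.unm
  have hall := nm_two (pre M.toNatV i) h.two
  have hNL := h.norm_line hv₀ hv₀1
  have hQT : o2 (normalizer (line M.toNatV i : Set G)) ≤ stab M.toNatV i := by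
    rw [hNL]; exact h.q_T hv₀ hv₀1
  have hVQ : fac M.toNatV i ≤ o2 (normalizer (line M.toNatV i : Set G)) := by
    rw [hNL]; exact h.fr.VQ i i v₀ (line_le _ i hv₀) hv₀1
  have hcQ : NatPair.cj c (fac M.toNatV i) ≤ ZN.o2 (normalizer (line M.toNatV i : Set G)) := by
    intro x hx
    rw [NatPair.mem_cj] at hx
    have h1 := (mem_normalizer_iff.1 (ZN.le_normalizer_o2 _ hc) _).1 (hVQ hx)
    have e : c * (c⁻¹ * x * c) * c⁻¹ = x := by group
    rwa [e] at h1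
  set N : NatMod F (fac M.toNatV i) := (pre M.toNatV i).toNatMod hall with hN
  have hline : N.line ![1, 0] = line M.toNatV i := by
    rw [← pre_line M.toNatV i]
    rfl
  have hmut : NatPair.Mutual (fac M.toNatV i) (NatPair.cj c (fac M.toNatV i)) := by
    refine ⟨hcQ.trans (hQT.trans (stab_normalizes _ i)), ?_, ?_⟩
    · intro x hx
      rw [NatPair.mem_normalizer_cj]
      apply stab_normalizes _ i
      apply hQT
      have := (mem_normalizer_iff.1 (inv_mem (ZN.le_normalizer_o2 _ hc)) x).1 (hVQ hx)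
      rwa [inv_inv] at this
    · obtain ⟨v, hv, w, hw, hvw⟩ := hne
      refine ⟨v, hv, _, ?_, hvw⟩
      rw [NatPair.mem_cj]
      have e : c⁻¹ * (c * w * c⁻¹) * c = w := by group
      rwa [e]
  have hinf : fac M.toNatV i ⊓ NatPair.cj c (fac M.toNatV i) = line M.toNatV i := by
    obtain ⟨-, w, w', hw, -, hl, -⟩ := NatPair.pair N (N.conj c) hmut
    have h1 : line M.toNatV i ≤ fac M.toNatV i ⊓ NatPair.cj c (fac M.toNatV i) := by
      refine le_inf (line_le _ i) fun x hx => ?_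
      rw [NatPair.mem_cj]
      apply line_le _ i
      have := (mem_normalizer_iff.1 (inv_mem hc) x).1 hx
      rwa [inv_inv] at this
    refine (Subgroup.eq_of_le_of_card_ge h1 ?_).symm
    rw [hl, N.card_line hw.ne, card_line]
  have a : BTwo.At (fac M.toNatV i) (N.line ![1, 0]) c := by
    rw [hline]
    exact ⟨hc, hmut, hinf, hVQ⟩
  have hQ₀ : BTwo.QQ (N.line ![1, 0]) ≤ normalizer (fac M.toNatV i : Set G) := by
    rw [hline]
    exact hQT.trans (stab_normalizes _ i)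
  have hnl : NonLoc (normalizer (fac M.toNatV i : Set G)) (normalizer (N.line ![1, 0] : Set G)) := by
    rw [hline]
    intro U hU hVU hRU
    by_contra h0
    have hH := MinSimple.Basic.char2_normalizer M.hG hU h0
    have h1 := h.ot (H := normalizer (U : Set G)) ((stab_normalizes _ i).trans hVU)
      ((XX_V h.fr i).trans hVU) (XX_V h.fr i) fun v hv w hw hv1 hw1 => XX_trans h.fr hv hw hv1 hw1
    have hVo : fac M.toNatV i ≤ ZN.o2 (normalizer (U : Set G)) := fun x hx =>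
      hH ⟨hVU (stab_normalizes _ i (h.V_T hx)), mem_centralizer_iff.2 fun y hy =>
        (mem_centralizer_iff.1 (h1 hy) x hx).symm⟩
    obtain ⟨v, hv, w, hw, hvw⟩ := hne
    apply hvw
    have h2 : c * w * c⁻¹ ∈ ZN.o2 (normalizer (U : Set G)) := conj_mem (ZN.le_normalizer_o2 _) (hRU hc) (hVo hw)
    exact mem_centralizer_iff.1 (h1 h2) v hv
  exact ⟨N, hline, BtsOf.bts_of_at N M.hG FourSide.vec_ne a hQ₀ hnl⟩

end Sit

/-- `Sit0` with the points `R` of `V_i`. -/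
structure Ins0 (M : NatD F S P V D k) (i : Fin k) {κ : Type*} (R : κ → Subgroup G) (o : κ) : Prop
    extends Sit0 M i where
  bts : BTS (fac M.toNatV i) R
  ro : R o = line M.toNatV i

/-- `Sit` with the points `R` of `V_i`. -/
structure Ins (M : NatD F S P V D k) (i : Fin k) {κ : Type*} (R : κ → Subgroup G) (o : κ) : Prop
    extends Ins0 M i R o, Sit M i

theorem Sit.exists_ins {i : Fin k} (h : Sit M i) :
    ∃ (N : NatMod F (fac M.toNatV i)) (o : BTwo.Pt N), Ins M i (pt N) o := by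
  obtain ⟨N, hl, b⟩ := h.exists_bts
  exact ⟨N, ⟨N.line ![1, 0], ![1, 0], FourSide.vec_ne, rfl⟩, { h with bts := b, ro := hl }⟩

namespace Ins0

variable {i : Fin k} {κ : Type*} {R : κ → Subgroup G} {o : κ} (h : Ins0 M i R o)
include h

theorem trans_X (j l : κ) : ∃ x ∈ BTwo.XX (fac M.toNatV i) R, BTwo.cj x (R j) = R l := h.bts.toBT.trans_X_one j l

theorem card_R (j : κ) : Nat.card (R j) = 2 := by
  obtain ⟨x, -, hx⟩ := h.trans_X o j
  rw [← hx, BTwo.card_cj, h.ro, card_line, h.two]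

/-- `X` is transitive on `V_i#` -/
theorem trans_V {v w : G} (hv : v ∈ fac M.toNatV i) (hw : w ∈ fac M.toNatV i) (hv1 : v ≠ 1) (hw1 : w ≠ 1) :
    ∃ d ∈ BTwo.XX (fac M.toNatV i) R, d * v * d⁻¹ = w := by
  obtain ⟨j, hj⟩ := h.bts.R_cov v hv
  obtain ⟨l, hl⟩ := h.bts.R_cov w hw
  obtain ⟨x, hx, e⟩ := h.trans_X j l
  refine ⟨x, hx, ?_⟩
  have h1 : x * v * x⁻¹ ∈ R l := by rw [← e]; exact BTwo.conj_mem_cj hj
  refine HOneTwo.eq_of_card_two (h.card_R l) hl hw1 h1 (fun h0 => hv1 ?_)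
  calc v = x⁻¹ * (x * v * x⁻¹) * x := by group
    _ = 1 := by rw [h0]; group

theorem T_R : stab M.toNatV i ≤ normalizer (R o : Set G) := by
  rw [h.ro]; exact stab_normalizes_line M.toNatV h.SP i

theorem norm_R {j : κ} {v : G} (hv : v ∈ R j) (hv1 : v ≠ 1) : normalizer (R j : Set G) = cz v := by
  apply le_antisymm
  · intro g hg
    have h2 := HOneTwo.normalizer_le_cen_of_card (h.card_R j) hg
    exact mem_cent.2 (mem_centralizer_iff.1 h2 v hv).symm
  · intro g hg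
    refine centralizer_le_normalizer _ (mem_centralizer_iff.2 fun y hy => ?_)
    by_cases hy1 : y = 1
    · rw [hy1, one_mul, mul_one]
    · rw [HOneTwo.eq_of_card_two (h.card_R j) hv hv1 hy hy1]
      exact (mem_cent.1 hg).symm

/-- `WW V_i (R j) ≤ KK v` -/
theorem WW_le {j : κ} {v : G} (hv : v ∈ R j) (hv1 : v ≠ 1) : WW (fac M.toNatV i) (R j) ≤ KK v := by
  refine iSup_le fun g => ?_
  rintro _ ⟨x, hx, rfl⟩
  have h1 : (g : G) ∈ cz v := by rw [← h.norm_R hv hv1]; exact g.2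
  have h2 := KK_conj (h := (g : G)) (zl_le_KK h.cc h.two (h.bts.R_le j hv) hv1 (M.V_le (NV.fac_le _ i hx)))
  rw [conj_of_comm (mem_cent.1 h1)] at h2
  exact h2

/-- an element centralised by all `W_v`, `v ∈ V_i#`, is centralised by `X` -/
theorem X_cen {c : G} (hc : ∀ v ∈ fac M.toNatV i, v ≠ 1 → ∀ g ∈ KK v, g * c = c * g) :
    BTwo.XX (fac M.toNatV i) R ≤ cz c := by
  refine iSup_le fun j g hg => ?_
  obtain ⟨v, hv, hv1⟩ := h.bts.exists_ne j
  exact mem_cent.2 (hc v (h.bts.R_le j hv) hv1 g (h.WW_le hv hv1 hg))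

theorem mem_cenX {c : G} (hc : ∀ v ∈ fac M.toNatV i, v ≠ 1 → ∀ g ∈ KK v, g * c = c * g) :
    c ∈ CenX (fac M.toNatV i) R := by
  rw [CenX, mem_centralizer_iff]
  exact fun x hx => mem_cent.1 (h.X_cen hc hx)

/-- conversely, for `c ∈ C(T) ∩ C(X)` -/
theorem cen_of {c : G} (hcT : ∀ t ∈ stab M.toNatV i, t * c = c * t)
    (hcX : ∀ x ∈ BTwo.XX (fac M.toNatV i) R, x * c = c * x) :
    ∀ v ∈ fac M.toNatV i, v ≠ 1 → ∀ g ∈ KK v, g * c = c * g := by
  intro v hv hv1 g hg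
  obtain ⟨v₀, hv₀, hv₀1⟩ := exists_line M i
  have hv₀i := line_le _ i hv₀
  obtain ⟨d, hd, e⟩ := h.trans_V hv hv₀i hv1 hv₀1
  have h1 : d * g * d⁻¹ ∈ stab M.toNatV i := by
    refine h.q_T hv₀ hv₀1 (h.fr.KK_le_q hv₀i hv₀1 ?_)
    have := KK_conj (h := d) hg
    rwa [e] at this
  have h2 : d * c = c * d := hcX d hd
  have h3 : (d * g * d⁻¹) * c = c * (d * g * d⁻¹) := hcT _ h1
  have h4 : d⁻¹ * c = c * d⁻¹ := by rw [inv_mul_eq_iff_eq_mul, ← mul_assoc, h2, mul_inv_cancel_right]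
  calc g * c = d⁻¹ * (d * g * d⁻¹) * (d * c) := by group
    _ = d⁻¹ * ((d * g * d⁻¹) * c) * d := by rw [h2]; group
    _ = (d⁻¹ * c) * (d * g) := by rw [h3]; group
    _ = c * g := by rw [h4]; group

theorem comm_zc {x z : G} (hx : x ∈ BTwo.XX (fac M.toNatV i) R) (hz : z ∈ zc (o2 P)) :
    x * z * x⁻¹ * z⁻¹ ∈ fac M.toNatV i := by
  have h1 : BTwo.XX (fac M.toNatV i) R ≤ BTwo.cenMod (fac M.toNatV i) (zc (o2 P)) := by
    refine iSup_le fun j w hw => ⟨h.bts.W_le_NV j hw, fun z hz => ?_⟩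
    obtain ⟨v, hv, hv1⟩ := h.bts.exists_ne j
    have hvi := h.bts.R_le j hv
    have hzq := h.zz_q hvi hv1 hz
    have hN := h.norm_R hv hv1
    have hzQ : z ∈ QQ (R j) := by
      change z ∈ ZN.o2 (normalizer (R j : Set G))
      rw [hN]
      exact hzq
    have h3 := h.bts.WQ j hzQ hw
    have e : w * z * w⁻¹ * z⁻¹ = (z * w * z⁻¹ * w⁻¹)⁻¹ := by group
    rw [e]
    exact inv_mem (h.bts.R_le j h3)
  exact (h1 hx).2 z hz

/-- the member of `P_Z` -/
theorem P_Z {x z : G} (hx : x ∈ stab M.toNatV i ⊔ BTwo.XX (fac M.toNatV i) R) (hz : z ∈ zc (stab M.toNatV i)) :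
    x * z * x⁻¹ * z⁻¹ ∈ fac M.toNatV i := by
  have h1 : stab M.toNatV i ⊔ BTwo.XX (fac M.toNatV i) R ≤ BTwo.cenMod (fac M.toNatV i) (zc (stab M.toNatV i)) := by
    refine sup_le (fun t ht => ⟨h.T_V ht, fun z hz => ?_⟩) fun x hx =>
      ⟨h.bts.X_le_NV hx, fun z hz => h.comm_zc hx (h.zc_le hz)⟩
    rw [((ZN.mem_zc.1 hz).2.1 t ht), mul_inv_cancel_right, mul_inv_cancel]
    exact one_mem _
  exact (h1 hx).2 z hz

end Ins0

namespace Ins

variable {i : Fin k} {κ : Type*} {R : κ → Subgroup G} {o : κ} (h : Ins M i R o)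
include h

/-- **(OT)** for `X` -/
theorem loc {H : Subgroup G} (hT : stab M.toNatV i ≤ H) (hX : BTwo.XX (fac M.toNatV i) R ≤ H) :
    ZN.o2 H ≤ centralizer (fac M.toNatV i : Set G) :=
  h.ot hT hX h.bts.X_le_NV fun _ hv _ hw hv1 hw1 => h.trans_V hv hw hv1 hw1

/-- **The instance.** -/
theorem htt : HT.HTT (stab M.toNatV i) (stab M.toNatV i ⊔ BTwo.XX (fac M.toNatV i) R) (fac M.toNatV i) R o where
  toBT := h.bts.toBT
  card_R := h.card_R
  char2 := h.c2
  S_p := h.T2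
  S_odd := by rw [h.ro]; exact h.odd
  S_V := h.T_V
  S_R := h.T_R
  S_P := le_sup_left
  P_V := sup_le h.T_V h.bts.X_le_NV
  P_trans j := by
    obtain ⟨x, hx, e⟩ := h.trans_X o j
    exact ⟨x, mem_sup_right hx, e⟩
  P_Z _ hx _ hz := h.P_Z hx hz
  loc _ hT hX _ _ := h.loc hT hX

/-- `z ∈ Ω₁Z(T)` centralised by the `W_v`, `v ∈ V_i#`, lies in `Z₀` -/
theorem mem_Z0 {z : G} (hz : z ∈ zc (stab M.toNatV i))
    (hc : ∀ v ∈ fac M.toNatV i, v ≠ 1 → ∀ g ∈ KK v, g * z = z * g) :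
    z ∈ zc (stab M.toNatV i) ⊓ centralizer ((stab M.toNatV i ⊔ BTwo.XX (fac M.toNatV i) R : Subgroup G) : Set G) := by
  refine ⟨hz, ?_⟩
  have h2 : stab M.toNatV i ⊔ BTwo.XX (fac M.toNatV i) R ≤ cz z :=
    sup_le (fun t ht => mem_cent.2 ((ZN.mem_zc.1 hz).2.1 t ht)) (h.X_cen hc)
  exact mem_centralizer_iff.2 fun x hx => mem_cent.1 (h2 hx)

/-- **`Sig c` implies `c ∈ D^`** -/
theorem cen_of_sig {c : G} (hc : c ∈ zc (stab M.toNatV i) ⊓
    centralizer ((stab M.toNatV i ⊔ BTwo.XX (fac M.toNatV i) R : Subgroup G) : Set G))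
    (hS : HT.Sig (fac M.toNatV i) R o c) : Cen M c := by
  have hcz := h.zc_le hc.1
  refine ⟨hcz, fun j v hv hv1 g hg => ?_⟩
  obtain ⟨v₀, hv₀, hv₀1⟩ := exists_line M i
  by_cases hji : j = i
  · subst hji
    exact h.cen_of (ZN.mem_zc.1 hc.1).2.1 (fun x hx => mem_centralizer_iff.1 hc.2 x (mem_sup_right hx)) v hv hv1 g hg
  have hgq := h.fr.KK_le_q hv hv1 hg
  have hgV : ∀ x ∈ fac M.toNatV i, g * x = x * g := fun x hx => h.fr.Qc j i (fun e => hji e.symm) v hv hv1 g hgq x hx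
  have hRV : R o ≤ fac M.toNatV i := h.bts.R_le o
  have hgN : g ∈ normalizer (R o : Set G) := by
    refine (centralizer_le_normalizer _) ?_
    rw [mem_centralizer_iff]
    exact fun y hy => (hgV y (hRV hy)).symm
  obtain ⟨v₁, hv₁, hv₁1, hvv⟩ := h.fr.exists_other (i := i) v₀
  have hv₁R : v₁ ∉ R o := by
    rw [h.ro]
    intro h0
    exact hvv ((eq_of_line h.two hv₀ hv₀1 h0).resolve_left hv₁1).symm
  have h1 := hS g hgN (fun x hx => mem_sup_left (by rw [conj_of_comm (hgV x hx)]; exact hx)) v₁ hv₁ hv₁R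
  have e1 : (v₁ * c)⁻¹ * g * (v₁ * c) * g⁻¹ = c⁻¹ * (g * c * g⁻¹) := by
    calc (v₁ * c)⁻¹ * g * (v₁ * c) * g⁻¹ = c⁻¹ * v₁⁻¹ * (g * v₁) * c * g⁻¹ := by group
      _ = c⁻¹ * v₁⁻¹ * (v₁ * g) * c * g⁻¹ := by rw [hgV v₁ hv₁]
      _ = c⁻¹ * (g * c * g⁻¹) := by group
  rw [e1] at h1
  have hcq := h.zz_q hv hv1 hcz
  rcases h.fr.KK_act hv hg hcq with h2 | h2
  · exact comm_of_conj h2
  · exfalso
    have h3 : v * c = c * v := (mem_cent.1 ((o2_le _) hcq)).symm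
    rw [h2, h3, inv_mul_cancel_left] at h1
    exact hv1 (h.fr.disj (fun e => hji e) hv (hRV h1))

/-- `r ∈ Z(O₂(H))` for `H ≥ T` with `O₂(H)` centralising `V_i` -/
theorem good_of_T {j : Fin k} (h' : Sit M j) (hst : stab M.toNatV j = stab M.toNatV i) {r e : G}
    (hr : r ∈ zc (stab M.toNatV i)) (hee : e * e = 1) (he1 : e ≠ 1)
    (hT : ∀ t ∈ stab M.toNatV i, t * e = e * t)
    (hX : ∀ v ∈ fac M.toNatV j, v ≠ 1 → ∀ g ∈ KK v, g * e = e * g) : HT.LemE.Good r e := by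
  have hTe : stab M.toNatV i ≤ cz e := fun t ht => mem_cent.2 (hT t ht)
  have hXe : Big.XX (fac M.toNatV) j ≤ cz e := XX_le fun v hv hv1 g hg => mem_cent.2 (hX v hv hv1 g hg)
  have h1 := h'.ot (H := cz e) (by rw [hst]; exact hTe) hXe (XX_V h.fr j)
    fun v hv w hw hv1 hw1 => XX_trans h.fr hv hw hv1 hw1
  obtain ⟨v, hv, hv1⟩ := exists_line M j
  have hTv : stab M.toNatV i ≤ cz v := by rw [← hst]; exact h'.T_cz hv
  have h2 : qz e ≤ stab M.toNatV i := by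
    refine HT.LemE.le_of_odd h.T2 hTv ?_ (o2_isPGroup _) (fun x hx => ?_) (hTe.trans (le_normalizer_o2 _))
    · rw [← hst]; exact h'.odd' hv hv1
    · exact mem_cent.2 ((mem_centralizer_iff.1 (h1 hx) v (line_le _ j hv)).symm)
  have hrc := ZN.mem_zc.1 hr
  have h3 : r ∈ centralizer (qz e : Set G) := mem_centralizer_iff.2 fun x hx => hrc.2.1 x (h2 hx)
  have h4 : r ∈ cz e := hTe (ZN.zc_le _ hr)
  exact ⟨Big.Supply.cz_char2 h.c2 hee he1 ⟨h4, h3⟩, h3⟩

/-- **LEMMA E over `T`** -/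
theorem hLE (j : κ) : HTwo.ThmA.LE (fac M.toNatV i) R j := by
  obtain ⟨m, hmi, hst, h'⟩ := h.exists_swap
  obtain ⟨r, hr, hr1⟩ := exists_line M i
  have hrR : ∀ x ∈ R o, x = 1 ∨ x = r := fun x hx => eq_of_line h.two hr hr1 (by rwa [← h.ro])
  have hrz := h.line_zc hr
  refine Big.Syl.le_T' (i := o) h.bts hrR (by rw [h.ro]; exact hr) h.T2 h.T_V h.T_R (by rw [h.ro]; exact h.odd)
    ?_ ?_ j
  · obtain ⟨g, hg, v, hv, w, hw, hne⟩ := h.unm
    exact ⟨g, by rw [h.ro]; exact hg, v, hv, g * w * g⁻¹, BTwo.conj_mem_cj hw, hne⟩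
  · intro e heT he1 hee hcomm heX
    have hez : e ∈ zc (stab M.toNatV i) := ZN.mem_zc.2 ⟨heT, fun t ht => (hcomm t ht).symm, by rw [pow_two]; exact hee⟩
    have hecX : ∀ x ∈ BTwo.XX (fac M.toNatV i) R, x * e = e * x := fun x hx => mem_centralizer_iff.1 heX x hx
    have hX := h.cen_of (fun t ht => (hcomm t ht).symm) hecX
    rcases h.exists_le (h.zc_le hez) hX with hc | ⟨l, hl, hΛ⟩
    · left
      have hre : r * e = e * r := (hcomm r (ZN.zc_le _ hrz)).symm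
      have hrr : r * r = 1 := h.fr.sq i r (line_le _ i hr)
      refine ⟨h.good_of_T h' hst hrz hee he1 (fun t ht => (hcomm t ht).symm) (fun v hv hv1 g hg => hc.2 m v hv hv1 g hg),
        h.good_of_T h' hst hrz ?_ ?_ ?_ ?_⟩
      · calc r * e * (r * e) = r * (e * r) * e := by group
          _ = (r * r) * (e * e) := by rw [← hre]; group
          _ = 1 := by rw [hrr, hee, mul_one]
      · intro h0
        have h1 : r = e := by
          calc r = r * e * e := by rw [mul_assoc, hee, mul_one]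
            _ = e := by rw [h0, one_mul]
        exact hr1 (h.bts.cen_VX (line_le _ i hr) (h1 ▸ heX))
      · intro t ht
        calc t * (r * e) = (t * r) * e := by group
          _ = r * (t * e) := by rw [h.T_comm hr ht]; group
          _ = r * e * t := by rw [← hcomm t ht]; group
      · intro v hv hv1 g hg
        have h1 : g * r = r * g := h.fr.Qc m i (Ne.symm hmi) v hv hv1 g (h.fr.KK_le_q hv hv1 hg) r (line_le _ i hr)
        calc g * (r * e) = (g * r) * e := by group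
          _ = r * (g * e) := by rw [h1]; group
          _ = r * e * g := by rw [hc.2 m v hv hv1 g hg]; group
    · right
      refine ⟨fac M.toNatV l, ?_, ?_, ?_, by rw [h.ro]; exact hΛ⟩
      · obtain ⟨a, ha, b, hb, ha1, hb1, hab⟩ := h.fr.exists_two l
        refine ⟨a, ha, b, hb, ha1, hb1, fun h0 => hab ?_⟩
        have h2 := h.fr.sq l b hb
        calc a = a * b * b := by rw [mul_assoc, h2, mul_one]
          _ = b := by rw [h0, one_mul]
      · intro y hy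
        refine h.mem_cenX fun v hv hv1 g hg => ?_
        exact h.fr.Qc i l hl v hv hv1 g (h.fr.KK_le_q hv hv1 hg) y hy
      · intro y hy hy1
        exact ⟨h.fr.VQ l i y hy hy1 (line_le _ i hr), mem_centralizer_iff.2 fun x hx =>
          h.fr.Qc l i (Ne.symm hl) y hy hy1 x hx r (line_le _ i hr)⟩

/-- `OtD` at `V_i` -/
theorem otd {r : G} (hr : ∀ x, x ∈ R o ↔ x = 1 ∨ x = r) (hr1 : r ≠ 1) :
    HT.OtCore.OtD (stab M.toNatV i) (fac M.toNatV i) (BTwo.XX (fac M.toNatV i) R) r :=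
  HT.EndCore.otD h.htt hr (h.zt (by rw [← h.ro]; exact (hr r).2 (Or.inr rfl)) hr1)

end Ins

/-- **CvBig (and WrBig, CvOneA2), `q = 2`, CASE 1**: contradiction. -/
theorem Sit.false_of {i : Fin k} (h₀ : Sit M i) (hD : D ≠ ⊥ ∨ 2 < k) : False := by
  obtain ⟨j, hji, hst, h₀'⟩ := h₀.exists_swap
  obtain ⟨N, o, h⟩ := h₀.exists_ins
  obtain ⟨N', o', h'⟩ := h₀'.exists_ins
  obtain ⟨r, hr1, hrr, hr⟩ := h.htt.exists_gen o
  obtain ⟨r', hr1', hrr', hr'⟩ := h'.htt.exists_gen o'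
  have hrl : r ∈ line M.toNatV i := by rw [← h.ro]; exact (hr r).2 (Or.inr rfl)
  have hrl' : r' ∈ line M.toNatV j := by rw [← h'.ro]; exact (hr' r').2 (Or.inr rfl)
  have h1 := h.otd hr hr1
  have h2 := h'.otd hr' hr1'
  rw [hst] at h2
  -- the element `z₀`
  obtain ⟨z₀, hz₀, hz₀1, hz₀i, hz₀j, hne⟩ : ∃ z₀ ∈ zc (stab M.toNatV i), z₀ ≠ 1 ∧
      (∀ v ∈ fac M.toNatV i, v ≠ 1 → ∀ g ∈ KK v, g * z₀ = z₀ * g) ∧
      (∀ v ∈ fac M.toNatV j, v ≠ 1 → ∀ g ∈ KK v, g * z₀ = z₀ * g) ∧ r' ≠ z₀ := by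
    by_cases hD1 : D = ⊥
    · obtain ⟨z, hz, hz1, hzi, hzj⟩ := h₀.exists_z (hD.resolve_left (fun h => h hD1)) hD1 hji hst
      refine ⟨z, hz, hz1, fun v hv hv1 g hg => h₀.KK_part hv hv1 hg hzi,
        fun v hv hv1 g hg => h₀.KK_part hv hv1 hg hzj, fun e => hz1 ?_⟩
      have h3 : z ∈ part M.toNatV {j} := by rw [← e]; exact line_le _ j hrl'
      have h4 : z ∈ part M.toNatV {j} ⊓ part M.toNatV {j}ᶜ := ⟨h3, hzj⟩
      rw [part_inf, Set.inter_compl_self, part_empty, mem_bot] at h4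
      exact h4
    · obtain ⟨d, hd, hd1⟩ := (Subgroup.bot_or_exists_ne_one D).resolve_left hD1
      have hdP : ∀ x ∈ P, x * d = d * x := fun x hx => D_comm' (M := M) hx hd
      have hK : ∀ l, ∀ v ∈ fac M.toNatV l, v ≠ 1 → ∀ g ∈ KK v, g * d = d * g := fun l v hv hv1 g hg =>
        hdP g (q_le_P h₀.cc hv hv1 (h₀.fr.KK_le_q hv hv1 hg))
      have hdz : d ∈ zc (o2 P) := zl_le_zz M (M.D_le hd)
      refine ⟨d, ZN.mem_zc.2 ⟨h₀.o2_le_stab (ZN.zc_le _ hdz), fun t ht => hdP t (h₀.TP ht), (ZN.mem_zc.1 hdz).2.2⟩,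
        hd1, hK i, hK j, fun e => hd1 ?_⟩
      exact inf_D (M := M) (by rw [← e]; exact NV.fac_le _ j (line_le _ j hrl')) hd
  have hz₀Z := h.mem_Z0 hz₀ hz₀i
  have hr'z : r' ∈ zc (stab M.toNatV i) := hst ▸ h₀'.line_zc hrl'
  have hr'Z := h.mem_Z0 hr'z fun v hv hv1 g hg =>
    h₀.fr.Qc i j hji v hv hv1 g (h₀.fr.KK_le_q hv hv1 hg) r' (line_le _ j hrl')
  have hXr : ∀ x ∈ BTwo.XX (fac M.toNatV j) (pt N'), x * r = r * x := fun x hx =>
    mem_cent.1 (h'.X_cen (c := r) (fun v hv hv1 g hg =>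
      h₀.fr.Qc j i (Ne.symm hji) v hv hv1 g (h₀.fr.KK_le_q hv hv1 hg) r (line_le _ i hrl)) hx)
  have loc : ∀ H : Subgroup G, stab M.toNatV i ≤ H → BTwo.XX (fac M.toNatV j) (pt N') ≤ H → o2 H ≠ ⊥ →
      H ⊓ centralizer (o2 H : Set G) ≤ o2 H → o2 H ≤ centralizer (fac M.toNatV j : Set G) :=
    fun H hT hX _ _ => h'.loc (by rw [hst]; exact hT) hX
  apply hne
  refine HT.EndCore.main h.htt h.hLE hr h1 (fun _ c hcc hs => ?_) r' hr'Z z₀ hz₀Z hr1' hz₀1
  have hcen := h.cen_of_sig hcc hs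
  by_cases hc1 : c = 1
  · exact ⟨z₀, hz₀Z, hz₀1, Or.inl hc1, HT.EndCore.not_alpha h.htt hr h1 h.hLE hz₀Z hz₀1 h2 hXr
      (fun x hx => mem_cent.1 (h'.X_cen hz₀j hx)) loc⟩
  · exact ⟨c, hcc, hc1, Or.inr rfl, HT.EndCore.not_alpha h.htt hr h1 h.hLE hcc hc1 h2 hXr
      (fun x hx => mem_cent.1 (h'.X_cen (hcen.2 j) hx)) loc⟩

end frame

end Cfsg.Agent.Omega.IId.NV.BigD
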