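import Cfsg.Agent.Omega.IId.BigD.OtZ

/-!
# CvBig, `q = 2`, `V_i` unmixed: LEMMA E without Sylow hypothesis on `T`

* `Ins0.core` : `1 ≠ K' ≤ Ω₁Z(Q_v) ∩ C(X)`, `⟨v⟩ × K'` normalised by `C(v)`: `Ω₁Z(Q_v) ≤ ⟨v⟩ × C(X)`;
* `Ins0.le` : **LEMMA E**.
-/

set_option autoImplicit false
set_option linter.unusedSectionVars false

namespace Cfsg.Agent.Omega.IId.NV.BigD

open Subgroup Pointwise Cfsg Cfsg.Agent.ZN Cfsg.Agent.ZN.ChoiceBase
open Cfsg.Agent.Omega.MinPar Cfsg.Agent.Omega.FFThm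
open Cfsg.Agent.MinSimple.VModule (o2_isPGroup)
open Cfsg.Agent.Omega.IId.NV
open Cfsg.Agent.Omega.IId.Big (Fr Vo conj_mem norm_of comm_of_conj conj_of_comm isPGroup_of_sq le_Vo Vo_le
  cent_of_closure KK_le_XX XX_le)
open Triangle (KK KK_conj KK_le_o2 mem_cent mem_KK mem_zpowers_iff_of_sq cent_conj o2_cent_conj)
open Cfsg.Agent.Omega.BTwo (BT BTS WW QQ CenX pt)

universe u

local notation "cz" v:max => centralizer ({v} : Set _)
local notation "qz" v:max => ZN.o2 (centralizer ({v} : Set _))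

section noA

variable {G : Type*} [Group G] [Finite G] {κ : Type*} {V : Subgroup G} {R : κ → Subgroup G}

/-- no four-group `A ≤ C(X)` in a subgroup `E ≤ R C(X)` normalised by `N(R)` with `r ∈ Z(O₂(C(y)))` for `y ∈ A#` -/
theorem no_A (b : BTS V R) {i : κ} {r : G} (hr : ∀ x ∈ R i, x = 1 ∨ x = r) (hri : r ∈ R i)
    (hnc : ∃ k ∈ normalizer (R i : Set G), ∃ v ∈ V, ∃ w ∈ V, v * (k * w * k⁻¹) ≠ k * w * k⁻¹ * v)
    {E A : Subgroup G} (hKE : normalizer (R i : Set G) ≤ normalizer (E : Set G))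
    (hEm : ∀ e ∈ E, e ∈ CenX V R ∨ r * e ∈ CenX V R) (hAE : A ≤ E) (hAX : A ≤ CenX V R)
    (hA3 : ∃ y ∈ A, ∃ y' ∈ A, y ≠ 1 ∧ y' ≠ 1 ∧ y * y' ≠ 1) (hAg : ∀ y ∈ A, y ≠ 1 → HT.LemE.Good r y) : False := by
  have hr1 : r ≠ 1 := by
    rintro rfl
    refine b.R_ne i ((eq_bot_iff_forall _).2 fun x hx => ?_)
    rcases hr x hx with h | h <;> exact h
  have hrr : r * r = 1 := b.V_sq r (b.R_le i hri)
  have hKr : ∀ k ∈ normalizer (R i : Set G), k * r = r * k := by
    intro k hk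
    have h1 := (mem_normalizer_iff.1 hk r).1 hri
    rcases hr _ h1 with h | h
    · exact (cj_ne_one hr1 h).elim
    · exact comm_of_conj h
  obtain ⟨k0, hk0, v0, hv0, w0, hw0, hne⟩ := hnc
  have hEk : ∀ e ∈ E, e ∈ centralizer (BTwo.cj k0 (BTwo.XX V R) : Set G) ∨
      r * e ∈ centralizer (BTwo.cj k0 (BTwo.XX V R) : Set G) := by
    intro e he
    have h1 : k0⁻¹ * e * k0 ∈ E := by
      have := (mem_normalizer_iff.1 (inv_mem (hKE hk0)) e).1 he
      rwa [inv_inv] at this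
    rw [BTwo.centralizer_cj, BTwo.mem_cj, BTwo.mem_cj]
    rcases hEm _ h1 with h2 | h2
    · exact Or.inl h2
    · right
      have h3 : k0⁻¹ * (r * e) * k0 = r * (k0⁻¹ * e * k0) := by
        have h4 : k0⁻¹ * r = r * k0⁻¹ := by
          rw [inv_mul_eq_iff_eq_mul, ← mul_assoc, hKr k0 hk0, mul_inv_cancel_right]
        calc k0⁻¹ * (r * e) * k0 = (k0⁻¹ * r) * e * k0 := by group
          _ = _ := by rw [h4]; group
      rw [h3]; exact h2
  have ab : ∀ f : G, ∀ a ∈ ZN.o2 (centralizer ({f} : Set G)) ⊓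
      centralizer (ZN.o2 (centralizer ({f} : Set G)) : Set G),
      ∀ c ∈ ZN.o2 (centralizer ({f} : Set G)) ⊓ centralizer (ZN.o2 (centralizer ({f} : Set G)) : Set G),
      a * c = c * a := fun f a ha c hc => mem_centralizer_iff.1 hc.2 a ha.1
  obtain ⟨y, hy, y', hy', y1, y1', y1''⟩ := hA3
  have hfin : ∀ z ∈ A, z ≠ 1 → z ∈ centralizer (BTwo.cj k0 (BTwo.XX V R) : Set G) → False := by
    intro z hz hz1 hzk
    have g1 := hAg z hz hz1
    have h1 := HT.LemE.cj_le b.toBT hr g1 (hKr k0 hk0) hzk (BTwo.conj_mem_cj hw0)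
    have h2 : z ∈ centralizer (BTwo.cj 1 (BTwo.XX V R) : Set G) := by
      rw [BTwo.cj_one]; exact hAX hz
    have h3 := HT.LemE.cj_le b.toBT hr g1 (by rw [one_mul, mul_one]) h2 (by rw [BTwo.cj_one]; exact hv0)
    exact hne (ab z _ h3 _ h1)
  rcases hEk y (hAE hy) with h | h
  · exact hfin y hy y1 h
  rcases hEk y' (hAE hy') with h' | h'
  · exact hfin y' hy' y1' h'
  refine hfin (y * y') (mul_mem hy hy') y1'' ?_
  have hry : r * y = y * r := mem_centralizer_iff.1 (b.CenX_le_cen (hAX hy)) r (b.R_le i hri)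
  have e1 : r * y * (r * y') = y * y' := by
    calc r * y * (r * y') = (r * y) * r * y' := by group
      _ = y * (r * r) * y' := by rw [hry]; group
      _ = y * y' := by rw [hrr, mul_one]
  rw [← e1]
  exact mul_mem h h'

end noA

section frame

variable {G : Type u} [Group G] [Finite G] {F : Type} [Field F] [Finite F] [CharP F 2] {S : Sylow 2 G}
  {P V D : Subgroup G} {k : ℕ} {M : NatD F S P V D k}

namespace Ins0

variable {i : Fin k} {κ : Type*} {R : κ → Subgroup G} {o : κ} (h : Ins0 M i R o)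
include h

/-- the core of LEMMA E -/
theorem core {r : G} (hr : r ∈ line M.toNatV i) (hr1 : r ≠ 1) {K : Subgroup G} (hKq : K ≤ zc (qz r))
    (hKX : K ≤ CenX (fac M.toNatV i) R) (hne : K ≠ ⊥) (hT : kerS M ≤ normalizer (K : Set G))
    (hKK : ∀ l, l ≠ i → ∀ v ∈ fac M.toNatV l, v ≠ 1 → KK v ≤ normalizer (K : Set G))
    (hH : cz r ≤ normalizer ((line M.toNatV i ⊔ K : Subgroup G) : Set G)) {u : G} (hu : u ∈ zc (qz r)) :
    u ∈ CenX (fac M.toNatV i) R ∨ r * u ∈ CenX (fac M.toNatV i) R := by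
  have hri := line_le _ i hr
  have hXK : BTwo.XX (fac M.toNatV i) R ≤ centralizer (K : Set G) := fun x hx =>
    mem_centralizer_iff.2 fun y hy => (mem_centralizer_iff.1 (hKX hy) x hx).symm
  have hqK : qz r ≤ centralizer (K : Set G) := fun x hx =>
    mem_centralizer_iff.2 fun y hy => ((ZN.mem_zc.1 (hKq hy)).2.1 x hx).symm
  have hKKi : ∀ v ∈ fac M.toNatV i, v ≠ 1 → KK v ≤ centralizer (K : Set G) := by
    intro v hv hv1 g hg
    obtain ⟨d, hd, hdv⟩ := h.trans_V hv hri hv1 hr1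
    have h1 : d * g * d⁻¹ ∈ centralizer (K : Set G) := by
      refine hqK (h.fr.KK_le_q hri hr1 ?_)
      have := KK_conj (h := d) hg
      rwa [hdv] at this
    have h2 := hXK hd
    have e : g = d⁻¹ * (d * g * d⁻¹) * d := by group
    rw [e]
    exact mul_mem (mul_mem (inv_mem h2) h1) h2
  -- `O := O₂(C(K))`
  set O := ZN.o2 (centralizer (K : Set G)) with hO
  have hON : centralizer (K : Set G) ≤ normalizer (O : Set G) := le_normalizer_o2 _
  have hO2 : IsPGroup 2 O := o2_isPGroup _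
  have hOP : O ≤ ZN.o2 P := by
    refine le_trans ?_ (h.toSit0.ot0 (H := normalizer (K : Set G)) hT fun l v hv hv1 => ?_)
    · refine le_o2 ((o2_le _).trans (centralizer_le_normalizer _)) hO2 ?_
      exact (Omega.NOne.LemmaT.normalizer_le_normalizer_centralizer K).trans (normalizer_le_normalizer_o2 _)
    · by_cases hl : l = i
      · subst hl
        exact (hKKi v hv hv1).trans (centralizer_le_normalizer _)
      · exact hKK l hl v hv hv1
  have hOV : ∀ x ∈ O, ∀ v ∈ V, x * v = v * x := fun x hx v hv => (ZN.mem_zc.1 (V_le_zz M hv)).2.1 x (hOP hx)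
  set K₁ := line M.toNatV i ⊔ K with hK₁
  have hK₁K : centralizer (K₁ : Set G) ≤ centralizer (K : Set G) := centralizer_le (show K ≤ K₁ from le_sup_right)
  have hK₁r : centralizer (K₁ : Set G) ≤ cz r := fun x hx =>
    mem_cent.2 (mem_centralizer_iff.1 hx r ((le_sup_left : line M.toNatV i ≤ K₁) hr)).symm
  have hOK₁ : O ≤ centralizer (K₁ : Set G) := by
    intro x hx
    have h1 : K₁ ≤ cz x := by
      refine sup_le (fun y hy => mem_cent.2 (hOV x hx y (NV.fac_le _ i (line_le _ i hy))).symm) fun y hy => ?_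
      exact mem_cent.2 (mem_centralizer_iff.1 ((o2_le _) hx) y hy)
    exact mem_centralizer_iff.2 fun y hy => mem_cent.1 (h1 hy)
  have hOq : O ≤ qz r := by
    have h1 : O ≤ ZN.o2 (centralizer (K₁ : Set G)) := le_o2 hOK₁ hO2 (hK₁K.trans hON)
    refine h1.trans (le_o2 ((o2_le _).trans hK₁r) (o2_isPGroup _) ?_)
    exact (hH.trans (Omega.NOne.LemmaT.normalizer_le_normalizer_centralizer K₁)).trans
      (normalizer_le_normalizer_o2 _)
  have hK2 : IsPGroup 2 K := (o2_isPGroup _).to_le (hKq.trans (ZN.zc_le _))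
  have hchar := Omega.NOne.LemmaT.char2_centralizer h.c2 hK2 hne
  have hzO : zc (qz r) ≤ O := fun z hz => hchar ⟨hqK (ZN.zc_le _ hz), mem_centralizer_iff.2 fun x hx =>
    (ZN.mem_zc.1 hz).2.1 x (hOq hx)⟩
  -- `Ω₁Z(Q_r) ≤ Q_b` for all `b ∈ V_i#`
  have hub : ∀ b ∈ fac M.toNatV i, b ≠ 1 → u ∈ qz b := by
    intro b hb hb1
    obtain ⟨d, hd, hdb⟩ := h.trans_V hb hri hb1 hr1
    have h1 : d * u * d⁻¹ ∈ qz r := hOq (conj_mem hON (hXK hd) (hzO hu))
    have h2 : d⁻¹ * (d * u * d⁻¹) * d⁻¹⁻¹ ∈ qz (d⁻¹ * r * d⁻¹⁻¹) := by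
      rw [o2_cent_conj]
      exact ⟨_, h1, rfl⟩
    have e1 : d⁻¹ * (d * u * d⁻¹) * d⁻¹⁻¹ = u := by group
    have e2 : d⁻¹ * r * d⁻¹⁻¹ = b := by rw [← hdb]; group
    rwa [e1, e2] at h2
  have hfr := h.fr
  have hrz : ∀ z ∈ zc (qz r), ∀ x ∈ qz r, x * z = z * x := fun z hz => (ZN.mem_zc.1 hz).2.1
  have hrr : r * r = 1 := hfr.sq i r hri
  have hrq : r ∈ zc (qz r) := ZN.mem_zc.2 ⟨hfr.VQ i i r hri hr1 hri, fun x hx =>
    mem_cent.1 ((o2_le _) hx), by rw [pow_two]; exact hrr⟩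
  obtain ⟨b, hb, hb1, hrb⟩ := hfr.exists_other (i := i) r
  obtain ⟨a, ha, hab⟩ := hfr.move hri hb hr1 hb1 hrb
  obtain ⟨c, hc, hcr⟩ := hfr.move hb hri hb1 hr1 (Ne.symm hrb)
  have haq := hfr.KK_le_q hri hr1 ha
  have hbr : b * r = r * b := hfr.comm i i b hb r hri
  have hbb : b * b = 1 := hfr.sq i b hb
  have claim1 : ∀ g ∈ KK b, g * r = r * g → g * u = u * g := by
    intro g hg hgr
    rcases hfr.KK_act hb hg (hub b hb hb1) with h1 | h1
    · exact comm_of_conj h1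
    · exfalso
      have h2 : g * u * g⁻¹ ∈ zc (qz r) :=
        conj_mem ((le_normalizer_o2 _).trans (normalizer_le_normalizer_zc _)) (mem_cent.2 hgr) hu
      rw [h1] at h2
      have h3 : b ∈ zc (qz r) := (mul_mem_cancel_right hu).1 h2
      have h4 := hrz b h3 a haq
      rw [h4, mul_inv_cancel_right] at hab
      exact hr1 (mul_eq_right.1 hab.symm)
  have hdich : ∀ g ∈ KK b, g * r = r * g ∨ (c⁻¹ * g) * r = r * (c⁻¹ * g) := by
    intro g hg
    rcases hfr.KK_act hb hg (hfr.VQ i i b hb hb1 hri) with h1 | h1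
    · exact Or.inl (comm_of_conj h1)
    · right
      have h2 : g * r = b * r * g := by rw [← h1]; group
      have h3 : c⁻¹ * (b * r) = r * c⁻¹ := by rw [← hcr]; group
      calc c⁻¹ * g * r = c⁻¹ * (g * r) := by group
        _ = c⁻¹ * (b * r) * g := by rw [h2]; group
        _ = r * (c⁻¹ * g) := by rw [h3]; group
  have claim2 : ∃ w, (w = u ∨ w = r * u) ∧ ∀ g ∈ KK b, g * w = w * g := by
    rcases hfr.KK_act hb hc (hub b hb hb1) with h1 | h1
    · refine ⟨u, Or.inl rfl, fun g hg => ?_⟩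
      rcases hdich g hg with h2 | h2
      · exact claim1 g hg h2
      · have h3 := claim1 _ (mul_mem (inv_mem hc) hg) h2
        have h4 := comm_of_conj h1
        calc g * u = c * (c⁻¹ * g * u) := by group
          _ = (c * u) * (c⁻¹ * g) := by rw [h3]; group
          _ = u * g := by rw [h4]; group
    · have h4 : c * (r * u) = r * u * c := by
        apply comm_of_conj
        calc c * (r * u) * c⁻¹ = (c * r * c⁻¹) * (c * u * c⁻¹) := by group
          _ = (b * r) * b * u := by rw [hcr, h1]; group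
          _ = r * (b * b) * u := by rw [hbr]; group
          _ = r * u := by rw [hbb, mul_one]
      refine ⟨r * u, Or.inr rfl, fun g hg => ?_⟩
      rcases hdich g hg with h2 | h2
      · have h3 := claim1 g hg h2
        calc g * (r * u) = (g * r) * u := by group
          _ = r * (g * u) := by rw [h2]; group
          _ = r * u * g := by rw [h3]; group
      · have h3 := claim1 _ (mul_mem (inv_mem hc) hg) h2
        have h5 : c⁻¹ * g * (r * u) = r * u * (c⁻¹ * g) := by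
          calc c⁻¹ * g * (r * u) = (c⁻¹ * g * r) * u := by group
            _ = r * (c⁻¹ * g * u) := by rw [h2]; group
            _ = r * u * (c⁻¹ * g) := by rw [h3]; group
        calc g * (r * u) = c * (c⁻¹ * g * (r * u)) := by group
          _ = (c * (r * u)) * (c⁻¹ * g) := by rw [h5]; group
          _ = r * u * g := by rw [h4]; group
  obtain ⟨w, hw, hwb⟩ := claim2
  have hwq : w ∈ zc (qz r) := by
    rcases hw with rfl | rfl
    · exact hu
    · exact mul_mem hrq hu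
  have hwX : w ∈ CenX (fac M.toNatV i) R := by
    refine h.mem_cenX fun v hv hv1 g hg => ?_
    rcases hfr.cases4 hri hb hr1 hb1 hrb hv with rfl | rfl | rfl | rfl
    · exact (hv1 rfl).elim
    · exact hrz w hwq g (hfr.KK_le_q hri hr1 hg)
    · exact hwb g hg
    · have h1 := KK_conj (h := a⁻¹) hg
      have e1 : a⁻¹ * (r * b) * a⁻¹⁻¹ = b := by rw [← hab]; group
      rw [e1, inv_inv] at h1
      have h2 := hwb _ h1
      have h3 := hrz w hwq a haq
      calc g * w = a * (a⁻¹ * g * a) * (a⁻¹ * w) := by group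
        _ = a * (a⁻¹ * g * a) * (w * a⁻¹) := by
            rw [show a⁻¹ * w = w * a⁻¹ by rw [inv_mul_eq_iff_eq_mul, ← mul_assoc, h3, mul_inv_cancel_right]]
        _ = a * ((a⁻¹ * g * a) * w) * a⁻¹ := by group
        _ = (a * w) * (a⁻¹ * g * a) * a⁻¹ := by rw [h2]; group
        _ = w * g := by rw [h3]; group
  rcases hw with rfl | rfl
  · exact Or.inl hwX
  · exact Or.inr hwX

/-- **LEMMA E** (no Sylow hypothesis) -/
theorem le (hu : Unm M i) (j : κ) : HTwo.ThmA.LE (fac M.toNatV i) R j := by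
  have hfact : Fact (Nat.Prime 2) := ⟨Nat.prime_two⟩
  obtain ⟨r, hr, hr1⟩ := exists_line M i
  have hri := line_le _ i hr
  have hfr := h.fr
  have hrr : r * r = 1 := hfr.sq i r hri
  have hRo : R o = line M.toNatV i := h.ro
  have hNL : normalizer (R o : Set G) = cz r := by rw [hRo]; exact h.norm_line hr hr1
  have hR : ∀ x ∈ R o, x = 1 ∨ x = r := fun x hx => eq_of_line h.two hr hr1 (by rwa [← hRo])
  have hrR : r ∈ R o := by rw [hRo]; exact hr
  have hrz : ∀ z ∈ zc (qz r), ∀ x ∈ qz r, x * z = z * x := fun z hz => (ZN.mem_zc.1 hz).2.1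
  have hrq : r ∈ zc (qz r) := ZN.mem_zc.2 ⟨hfr.VQ i i r hri hr1 hri, fun x hx =>
    mem_cent.1 ((o2_le _) hx), by rw [pow_two]; exact hrr⟩
  refine HTwo.ThmA.le_all h.bts.toBT (i := o) (fun Λ hΛ hN => ?_) j
  by_contra hΛR
  set X₀ := CenX (fac M.toNatV i) R with hX₀
  set E := R o ⊔ Λ with hE
  have hKE : cz r ≤ normalizer (E : Set G) := by
    intro k hk
    rw [← hNL] at hk
    rw [← BTwo.cj_eq_self_iff, hE, BTwo.cj_sup, BTwo.cj_eq_self_iff.2 hk, BTwo.cj_eq_self_iff.2 (hN hk)]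
  have hEm : ∀ l ∈ E, ∃ a ∈ R o, a * l ∈ X₀ := by
    intro l hl
    have h1 : E ≤ HTwo.Par.RC h.bts.toBT o := by
      refine sup_le (fun a ha => ⟨a⁻¹, inv_mem ha, ?_⟩) hΛ
      rw [inv_mul_cancel]
      exact one_mem _
    exact h1 hl
  have hE0 : E ⊓ X₀ ≠ ⊥ := by
    intro h
    apply hΛR
    intro x hx
    obtain ⟨a, ha, hm⟩ := hΛ x hx
    have h1 : a * x ∈ E ⊓ X₀ :=
      ⟨mul_mem ((le_sup_left : R o ≤ E) ha) ((le_sup_right : Λ ≤ E) hx), hm⟩
    rw [h, mem_bot, mul_eq_one_iff_eq_inv] at h1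
    have h2 : x = a⁻¹ := by rw [h1, inv_inv]
    rw [h2]; exact inv_mem ha
  have hE2 : IsPGroup 2 (E ⊓ X₀ : Subgroup G) := h.bts.CenX_isPGroup.to_le inf_le_right
  -- `N(V_i) ∩ C(r)` normalises `E ∩ C(X)`
  have hNX : ∀ g ∈ cz r, g ∈ normalizer (fac M.toNatV i : Set G) →
      g ∈ normalizer (X₀ : Set G) := fun g _ hg => h.bts.NV_le_NCenX hg
  have hNE : ∀ g ∈ cz r, g ∈ normalizer (fac M.toNatV i : Set G) →
      g ∈ normalizer ((E ⊓ X₀ : Subgroup G) : Set G) := fun g h1 h2 => by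
    rw [← BTwo.cj_eq_self_iff, BTwo.cj_inf, BTwo.cj_eq_self_iff.2 (hKE h1), BTwo.cj_eq_self_iff.2 (hNX g h1 h2)]
  have hqE : qz r ≤ normalizer ((E ⊓ X₀ : Subgroup G) : Set G) := fun g hg =>
    hNE g ((o2_le _) hg) (h.T_V (h.q_T hr hr1 hg))
  -- the subgroup `K`
  set K := zc (qz r) ⊓ (E ⊓ X₀) with hK
  have hKne : K ≠ ⊥ := by
    obtain ⟨e, he, he1, hee⟩ := Half.exists_fixed hE2 hE0 (o2_isPGroup _) hqE
    obtain ⟨n, hn⟩ := hE2 ⟨e, he⟩
    have hn' : e ^ 2 ^ n = 1 := congrArg Subtype.val hn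
    -- a power of `e` of order 2
    obtain ⟨m, hm, hm1⟩ : ∃ m : ℕ, e ^ 2 ^ m * e ^ 2 ^ m = 1 ∧ e ^ 2 ^ m ≠ 1 := by
      have hex : ∃ n, e ^ 2 ^ n = 1 := ⟨n, hn'⟩
      classical
      have h1 := Nat.find_spec hex
      have h0 : Nat.find hex ≠ 0 := by
        intro h0
        rw [h0, pow_zero, pow_one] at h1
        exact he1 h1
      obtain ⟨m, hm⟩ := Nat.exists_eq_succ_of_ne_zero h0
      refine ⟨m, ?_, Nat.find_min hex (by omega)⟩
      rw [hm, pow_succ, pow_mul] at h1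
      rw [← pow_two]; exact h1
    have hfE : e ^ 2 ^ m ∈ E ⊓ X₀ := pow_mem he _
    have hfc : ∀ x ∈ qz r, x * e ^ 2 ^ m = e ^ 2 ^ m * x := fun x hx =>
      ((show Commute x e from comm_of_conj (hee x hx)).pow_right _).eq
    have hfr' : e ^ 2 ^ m ∈ cz r := mem_cent.2
      ((mem_centralizer_iff.1 (h.bts.CenX_le_cen hfE.2) r hri).symm)
    have hfq : e ^ 2 ^ m ∈ qz r := Big.Supply.cz_char2 h.c2 hrr hr1
      ⟨hfr', mem_centralizer_iff.2 fun x hx => hfc x hx⟩
    intro h0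
    apply hm1
    rw [← mem_bot, ← h0]
    exact ⟨ZN.mem_zc.2 ⟨hfq, hfc, by rw [pow_two]; exact hm⟩, hfE⟩
  have hczq : cz r ≤ normalizer (zc (qz r) : Set G) := (le_normalizer_o2 _).trans (normalizer_le_normalizer_zc _)
  have hNK : ∀ g ∈ cz r, g ∈ normalizer (fac M.toNatV i : Set G) → g ∈ normalizer (K : Set G) := fun g h1 h2 => by
    rw [← BTwo.cj_eq_self_iff, hK, BTwo.cj_inf, BTwo.cj_eq_self_iff.2 (hczq h1), BTwo.cj_eq_self_iff.2 (hNE g h1 h2)]
  have hKX : K ≤ X₀ := inf_le_right.trans inf_le_right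
  have hK₁ : line M.toNatV i ⊔ K = zc (qz r) ⊓ E := by
    apply le_antisymm
    · refine sup_le (fun x hx => ?_) (inf_le_inf le_rfl inf_le_left)
      rcases eq_of_line h.two hr hr1 hx with rfl | rfl
      · exact one_mem _
      · exact ⟨hrq, (le_sup_left : R o ≤ E) hrR⟩
    · rintro x ⟨hx, hxE⟩
      obtain ⟨a, ha, hax⟩ := hEm x hxE
      have haq : a ∈ zc (qz r) := by
        rcases hR a ha with rfl | rfl
        · exact one_mem _
        · exact hrq
      have h1 : a * x ∈ K := ⟨mul_mem haq hx, mul_mem ((le_sup_left : R o ≤ E) ha) hxE, hax⟩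
      have e : x = a⁻¹ * (a * x) := by group
      rw [e]
      exact mul_mem ((le_sup_left : line M.toNatV i ≤ _) (inv_mem (by rwa [← hRo])))
        ((le_sup_right : K ≤ _) h1)
  have hcore : ∀ u ∈ zc (qz r), u ∈ X₀ ∨ r * u ∈ X₀ := fun u huq => by
    refine h.core hr hr1 inf_le_left hKX hKne (fun t ht => ?_) (fun l hl v hv hv1 g hg => ?_) ?_ huq
    · exact hNK t (h.T_cz hr (kerS_le i ht)) (h.T_V (kerS_le i ht))
    · have h1 : ∀ x ∈ fac M.toNatV i, g * x = x * g := fun x hx =>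
        hfr.Qc l i (Ne.symm hl) v hv hv1 g (hfr.KK_le_q hv hv1 hg) x hx
      exact hNK g (mem_cent.2 (h1 r hri)) (centralizer_le_normalizer _
        (mem_centralizer_iff.2 fun x hx => (h1 x hx).symm))
    · rw [hK₁]
      intro g hg
      rw [← BTwo.cj_eq_self_iff, BTwo.cj_inf, BTwo.cj_eq_self_iff.2 (hczq hg), BTwo.cj_eq_self_iff.2 (hKE hg)]
  obtain ⟨l, hl⟩ : ∃ l : Fin k, l ≠ i := by
    have hk := h.k2
    by_contra hcon
    push Not at hcon
    have h1 : Fintype.card (Fin k) ≤ 1 := Fintype.card_le_one_iff.2 fun a b => by rw [hcon a, hcon b]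
    rw [Fintype.card_fin] at h1
    omega
  refine no_A (E := zc (qz r)) (A := fac M.toNatV l) h.bts hR hrR ?_ (by rw [hNL]; exact hczq) hcore
    (fun y hy => ?_) (fun y hy => ?_) ?_ fun y hy hy1 => ?_
  · obtain ⟨g, hg, v, hv, w, hw, hne⟩ := hu
    exact ⟨g, by rw [hRo]; exact hg, v, hv, w, hw, hne⟩
  · exact ZN.mem_zc.2 ⟨hfr.VQ i l r hri hr1 hy, fun x hx => hfr.Qc i l hl r hri hr1 x hx y hy, by
      rw [pow_two]; exact hfr.sq l y hy⟩
  · refine h.mem_cenX fun v hv hv1 g hg => ?_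
    exact hfr.Qc i l hl v hv hv1 g (hfr.KK_le_q hv hv1 hg) y hy
  · obtain ⟨a, ha, b, hb, ha1, hb1, hab⟩ := hfr.exists_two l
    refine ⟨a, ha, b, hb, ha1, hb1, fun h0 => hab ?_⟩
    have h2 := hfr.sq l b hb
    calc a = a * b * b := by rw [mul_assoc, h2, mul_one]
      _ = b := by rw [h0, one_mul]
  · exact ⟨hfr.VQ l i y hy hy1 hri, mem_centralizer_iff.2 fun x hx =>
      hfr.Qc l i (Ne.symm hl) y hy hy1 x hx r hri⟩

end Ins0

end frame

end Cfsg.Agent.Omega.IId.NV.BigD
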