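import Cfsg.Agent.Omega.IId.BigD.Inst
import Cfsg.Agent.Omega.ThmC.TwoOf
import Cfsg.Agent.Omega.NOne.LemmaT

/-!
# CvBig, `q = 2`: (OT0) without Sylow hypothesis on `T`

* `kerS M` : the kernel `⨅_l N_S(V_l)`, a Sylow 2-subgroup of `⨅_l C(v_l)`;
* `Sit0.ot0` : **(OT0)**: `H ≥ kerS M` and all `W_v` imply `O₂(H) ≤ O₂(P)`.
-/

set_option autoImplicit false
set_option linter.unusedSectionVars false

namespace Cfsg.Agent.Omega.IId.NV.BigD

open Subgroup Pointwise Cfsg Cfsg.Agent.ZN Cfsg.Agent.ZN.ChoiceBase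
open Cfsg.Agent.Omega.MinPar Cfsg.Agent.Omega.FFThm
open Cfsg.Agent.MinSimple.VModule (o2_isPGroup)
open Cfsg.Agent.Omega.IId.NV
open Cfsg.Agent.Omega.IId.Big (Fr Vo conj_mem norm_of comm_of_conj conj_of_comm isPGroup_of_sq le_Vo Vo_le
  cent_of_closure KK_le_XX XX_le)
open Triangle (KK KK_conj KK_le_o2 mem_cent mem_KK mem_zpowers_iff_of_sq cent_conj o2_cent_conj)

universe u

local notation "cz" v:max => centralizer ({v} : Set _)
local notation "qz" v:max => ZN.o2 (centralizer ({v} : Set _))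

variable {G : Type u} [Group G] [Finite G] {F : Type} [Field F] [Finite F] [CharP F 2] {S : Sylow 2 G}
  {P V D : Subgroup G} {k : ℕ} {M : NatD F S P V D k}

variable (M) in
/-- the kernel of `S` on the factors -/
def kerS : Subgroup G := ⨅ l, stab M.toNatV l

variable (M) in
/-- the elements fixing all lines -/
def C0 : Subgroup G := ⨅ l, normalizer (line M.toNatV l : Set G)

theorem kerS_le (l : Fin k) : kerS M ≤ stab M.toNatV l := iInf_le _ l

namespace Sit0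

variable {i : Fin k} (h : Sit0 M i)
include h

theorem kerS_le_S : kerS M ≤ (S : Subgroup G) := (kerS_le i).trans (stab_le _ i)

theorem mem_C0 {x : G} (hx : x ∈ C0 M) {l : Fin k} {v : G} (hv : v ∈ line M.toNatV l) : x * v = v * x := by
  by_cases hv1 : v = 1
  · rw [hv1, mul_one, one_mul]
  have h1 := mem_iInf.1 hx l
  rw [normalizer_line_eq h.two hv hv1] at h1
  exact mem_cent.1 h1

theorem mem_C0_of {x : G} (hx : ∀ l, ∀ v ∈ line M.toNatV l, x * v = v * x) : x ∈ C0 M := by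
  refine mem_iInf.2 fun l => ?_
  obtain ⟨v, hv, hv1⟩ := exists_line M l
  rw [normalizer_line_eq h.two hv hv1]
  exact mem_cent.2 (hx l v hv)

theorem S_C0 : (S : Subgroup G) ≤ normalizer (C0 M : Set G) := by
  refine norm_of fun s hs x hx => h.mem_C0_of fun l v hv => ?_
  have h1 : s⁻¹ * v * s ∈ line M.toNatV (sg M.toNatV (h.SP (inv_mem hs)) l) := by
    rw [← conj_line M.toNatV h.SP (inv_mem hs) l, mem_cj_iff]
    have e : s⁻¹⁻¹ * (s⁻¹ * v * s) * s⁻¹ = v := by group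
    rwa [e]
  have h2 := h.mem_C0 hx h1
  calc s * x * s⁻¹ * v = s * (x * (s⁻¹ * v * s)) * s⁻¹ := by group
    _ = v * (s * x * s⁻¹) := by rw [h2]; group

theorem inf_C0 : (S : Subgroup G) ⊓ C0 M = kerS M := by
  apply le_antisymm
  · rintro s ⟨hs, hc⟩
    refine mem_iInf.2 fun l => ?_
    obtain ⟨v, hv, hv1⟩ := exists_line M l
    have h1 : s * v = v * s := h.mem_C0 hc hv
    have hsP := h.SP hs
    refine ⟨hs, (mem_normalizer_fac_iff M.toNatV hsP).2 ?_⟩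
    by_contra hne
    refine hv1 (h.fr.disj hne (?_ : v ∈ fac M.toNatV (sg M.toNatV hsP l)) (line_le _ l hv))
    rw [← conj_fac M.toNatV hsP l, mem_cj_iff]
    have e : s⁻¹ * v * s = v := by rw [mul_assoc, ← h1]; group
    rw [e]
    exact line_le _ l hv
  · refine le_inf h.kerS_le_S ?_
    refine le_iInf fun l => (kerS_le l).trans (stab_normalizes_line M.toNatV h.SP l)

theorem odd_C0 : ¬ 2 ∣ (kerS M).relIndex (C0 M) := by
  rw [← h.inf_C0]
  exact Cfsg.Agent.Omega.ThmC.TwoOf.not_dvd_relIndex_inf (P := (S : Subgroup G) ⊔ C0 M) le_sup_left le_sup_right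
    (sup_le h.S_C0 le_normalizer) (MinSimple.Basic.not_dvd_relIndex S le_sup_left)

/-- an element of `Q_v ∩ S` fixing all factors -/
theorem q_le_kerS {l : Fin k} {v : G} (hv : v ∈ line M.toNatV l) (hv1 : v ≠ 1) : qz v ≤ kerS M := by
  obtain ⟨h1, h2⟩ := qz_le_stab h.cc hv hv1
  exact le_iInf fun m => le_inf (h1.trans (stab_le _ l)) (h2 m)

/-- `W_v`, `v ∈ V_l`, normalises all factors -/
theorem KK_norm {l : Fin k} {v : G} (hv : v ∈ fac M.toNatV l) (hv1 : v ≠ 1) (m : Fin k) :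
    KK v ≤ normalizer (fac M.toNatV m : Set G) := by
  by_cases hm : m = l
  · subst hm
    exact (KK_le_XX hv hv1).trans (XX_V h.fr m)
  · intro g hg
    refine centralizer_le_normalizer _ (mem_centralizer_iff.2 fun x hx => ?_)
    exact (h.fr.Qc l m hm v hv hv1 g (h.fr.KK_le_q hv hv1 hg) x hx).symm

/-- a 2-subgroup `N` normalising all factors and normalised by all `W_v` centralises all factors -/
theorem cent_fac {N : Subgroup G} (hN2 : IsPGroup 2 N) (hN : ∀ l, N ≤ normalizer (fac M.toNatV l : Set G))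
    {l : Fin k} (hKK : ∀ v ∈ fac M.toNatV l, v ≠ 1 → KK v ≤ normalizer (N : Set G)) :
    N ≤ centralizer (fac M.toNatV l : Set G) := by
  obtain ⟨v, hv, hv1⟩ := exists_line M l
  have hvi := line_le _ l hv
  have hV2 : IsPGroup 2 (fac M.toNatV l) := isPGroup_of_sq fun x hx => h.fr.sq l x hx
  have hne : fac M.toNatV l ≠ ⊥ := fun h0 => hv1 (by rwa [h0, mem_bot] at hvi)
  obtain ⟨w, hw, hw1, hwN⟩ := Half.exists_fixed hV2 hne hN2 (hN l)
  intro x hx
  rw [mem_centralizer_iff]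
  intro u hu
  by_cases hu1 : u = 1
  · rw [hu1, one_mul, mul_one]
  obtain ⟨d, hd, hdu⟩ := XX_trans h.fr hw hu hw1 hu1
  have hdN : d ∈ normalizer (N : Set G) := (XX_le fun v hv hv1 => hKK v hv hv1) hd
  have h1 : d⁻¹ * x * d ∈ N := by
    have := (mem_normalizer_iff.1 (inv_mem hdN) x).1 hx
    rwa [inv_inv] at this
  have h2 := comm_of_conj (hwN _ h1)
  rw [← hdu]
  calc d * w * d⁻¹ * x = d * (w * (d⁻¹ * x * d)) * d⁻¹ := by group
    _ = x * (d * w * d⁻¹) := by rw [← h2]; group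

/-- **(OT0)** -/
theorem ot0 {H : Subgroup G} (hk : kerS M ≤ H) (hKK : ∀ l, ∀ v ∈ fac M.toNatV l, v ≠ 1 → KK v ≤ H) :
    ZN.o2 H ≤ ZN.o2 P := by
  have hfact : Fact (Nat.Prime 2) := ⟨Nat.prime_two⟩
  have hO2 : IsPGroup 2 (ZN.o2 H) := o2_isPGroup H
  have hHO := le_normalizer_o2 H
  have hk2 : IsPGroup 2 (kerS M) := S.isPGroup'.to_le h.kerS_le_S
  have hkC : kerS M ≤ C0 M := by rw [← h.inf_C0]; exact inf_le_right
  set O₀ := ZN.o2 H ⊓ C0 M with hO₀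
  have hO₀2 : IsPGroup 2 O₀ := hO2.to_le inf_le_left
  have hkO₀ : kerS M ≤ normalizer (O₀ : Set G) := norm_of fun t ht x hx =>
    ⟨conj_mem hHO (hk ht) hx.1, mul_mem (mul_mem (hkC ht) hx.2) ((C0 M).inv_mem (hkC ht))⟩
  have hO₀k : O₀ ≤ kerS M := HT.LemE.le_of_odd hk2 hkC h.odd_C0 hO₀2 inf_le_right hkO₀
  -- `O₀` centralises all factors
  set N := ZN.o2 H ⊓ ⨅ l, normalizer (fac M.toNatV l : Set G) with hNdef
  have hNn : ∀ l, N ≤ normalizer (fac M.toNatV l : Set G) := fun l => inf_le_right.trans (iInf_le _ l)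
  have hNK : ∀ l, ∀ v ∈ fac M.toNatV l, v ≠ 1 → KK v ≤ normalizer (N : Set G) := by
    intro l v hv hv1
    refine norm_of fun g hg x hx => ⟨conj_mem hHO (hKK l v hv hv1 hg) hx.1, mem_iInf.2 fun m => ?_⟩
    have hgm := h.KK_norm hv hv1 m hg
    exact mul_mem (mul_mem hgm (mem_iInf.1 hx.2 m)) (inv_mem hgm)
  have hNc : ∀ l, N ≤ centralizer (fac M.toNatV l : Set G) := fun l =>
    h.cent_fac (hO2.to_le inf_le_left) hNn (hNK l)
  have hO₀N : O₀ ≤ N := le_inf inf_le_left (le_iInf fun l => hO₀k.trans ((kerS_le l).trans (stab_normalizes _ l)))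
  have hO₀Z : ∀ x ∈ O₀, ∀ z ∈ zc (o2 P), x * z = z * x := fun x hx z hz =>
    h.comm_of_fac (h.SP (h.kerS_le_S (hO₀k hx)))
      (fun l v hv => (mem_centralizer_iff.1 (hNc l (hO₀N hx)) v hv).symm) hz
  have hO₀P : O₀ ≤ ZN.o2 P := by
    rw [← MinPar.IsParS.inf_centralizer S h.c2 h.par]
    exact le_inf (hO₀k.trans h.kerS_le_S) fun x hx => mem_centralizer_iff.2 fun z hz =>
      (hO₀Z x hx z (zl_le_zz M hz)).symm
  -- suppose `O > O₀`
  by_contra hcon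
  have hlt : O₀ < ZN.o2 H := by
    refine lt_of_le_of_ne inf_le_left fun e => hcon ?_
    rw [← e]
    exact hO₀P
  have hlt2 := Lib.GoldschmidtFusion.lt_inf_normalizer hO2 hlt
  obtain ⟨w, hw, hwO₀, hwT⟩ := SideOf.exists_fixed_mod (T := kerS M) (not_le_of_gt hlt2) inf_le_right
    (hO2.to_le inf_le_left) hk2 hkO₀ (norm_of fun t ht x hx =>
      ⟨conj_mem hHO (hk ht) hx.1, mul_mem (mul_mem (hkO₀ ht) hx.2)
        ((normalizer (O₀ : Set G)).inv_mem (hkO₀ ht))⟩)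
  have hPk : o2 P ≤ kerS M := by
    refine le_iInf fun l => le_inf (o2_le_S M) (norm_of fun x hx v hv => ?_)
    rw [((ZN.mem_zc.1 (V_le_zz M (NV.fac_le _ l hv))).2.1 x hx), mul_inv_cancel_right]
    exact hv
  -- `w` normalises `Q`
  have hwQ : ∀ q ∈ ZN.o2 P, w * q * w⁻¹ ∈ ZN.o2 P := by
    intro q hq
    have h1 := hwT q (hPk hq)
    have e : w * q * w⁻¹ = (q * w * q⁻¹ * w⁻¹)⁻¹ * q := by group
    rw [e]
    exact mul_mem (inv_mem (hO₀P h1)) hq
  have hwn : w ∈ normalizer (ZN.o2 P : Set G) := IITwo.Count.mem_norm hwQ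
  have hwY : ∀ z ∈ zc (ZN.o2 P), w * z * w⁻¹ ∈ zc (ZN.o2 P) := fun z hz =>
    conj_mem (normalizer_le_normalizer_zc _) hwn hz
  have hwn' : ∀ x ∈ O₀, w⁻¹ * x * w ∈ O₀ := fun x hx => by
    have := (mem_normalizer_iff.1 (inv_mem hw.2) x).1 hx
    rwa [inv_inv] at this
  apply hwO₀
  refine ⟨hw.1, h.mem_C0_of fun l v hv => ?_⟩
  by_cases hv1 : v = 1
  · rw [hv1, mul_one, one_mul]
  have hvl := line_le _ l hv
  obtain ⟨b, hb, hb1, hvb⟩ := h.fr.exists_other (i := l) v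
  obtain ⟨a, ha, hab⟩ := h.fr.move hvl hb hv1 hb1 hvb
  have hak : a ∈ kerS M := h.q_le_kerS hv hv1 (h.fr.KK_le_q hvl hv1 ha)
  have hbY : b ∈ zc (ZN.o2 P) := V_le_zz M (NV.fac_le _ l hb)
  have hvY : v ∈ zc (ZN.o2 P) := V_le_zz M (NV.fac_le _ l hvl)
  have ho : w * a * w⁻¹ * a⁻¹ ∈ O₀ := by
    have h1 := inv_mem (hwT a hak)
    have e : (a * w * a⁻¹ * w⁻¹)⁻¹ = w * a * w⁻¹ * a⁻¹ := by group
    rwa [e] at h1
  have hOy : ∀ o ∈ O₀, o * (w * b * w⁻¹) = w * b * w⁻¹ * o := fun o ho => hO₀Z o ho _ (hwY b hbY)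
  have hOv : ∀ o ∈ O₀, o * v = v * o := fun o ho => hO₀Z o ho v hvY
  have key : w * v * w⁻¹ = (w * a * w⁻¹ * a⁻¹) * (a * (w * b * w⁻¹) * a⁻¹) * (w * a * w⁻¹ * a⁻¹)⁻¹ *
      (w * b * w⁻¹)⁻¹ := by
    have e : v = a * b * a⁻¹ * b⁻¹ := by rw [hab, mul_inv_cancel_right]
    calc w * v * w⁻¹ = w * (a * b * a⁻¹ * b⁻¹) * w⁻¹ := by rw [← e]
      _ = _ := by group
  rcases h.fr.KK_act hvl ha (h.zz_q hvl hv1 (hwY b hbY)) with h1 | h1
  · rw [h1, hOy _ ho, mul_inv_cancel_right, mul_inv_cancel] at key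
    exact (hv1 (by
      calc v = w⁻¹ * (w * v * w⁻¹) * w := by group
        _ = 1 := by rw [key]; group)).elim
  · rw [h1] at key
    have h2 : (w * a * w⁻¹ * a⁻¹) * (v * (w * b * w⁻¹)) = v * (w * b * w⁻¹) * (w * a * w⁻¹ * a⁻¹) := by
      calc (w * a * w⁻¹ * a⁻¹) * (v * (w * b * w⁻¹)) = ((w * a * w⁻¹ * a⁻¹) * v) * (w * b * w⁻¹) := by group
        _ = v * ((w * a * w⁻¹ * a⁻¹) * (w * b * w⁻¹)) := by rw [hOv _ ho]; group
        _ = _ := by rw [hOy _ ho]; group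
    rw [h2, mul_inv_cancel_right, mul_inv_cancel_right] at key
    exact comm_of_conj key

/-- **(OT0)**: moreover `Ω₁Z(O₂(P)) ≤ Z(O₂(H))` if `H` has characteristic 2 and contains `Ω₁Z(O₂(P))` -/
theorem ot0_z {H : Subgroup G} (hk : kerS M ≤ H) (hKK : ∀ l, ∀ v ∈ fac M.toNatV l, v ≠ 1 → KK v ≤ H)
    (hc : H ⊓ centralizer (ZN.o2 H : Set G) ≤ ZN.o2 H) : zc (ZN.o2 P) ≤ ZN.o2 H := by
  have hPk : o2 P ≤ kerS M := by
    refine le_iInf fun l => le_inf (o2_le_S M) (norm_of fun x hx v hv => ?_)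
    rw [((ZN.mem_zc.1 (V_le_zz M (NV.fac_le _ l hv))).2.1 x hx), mul_inv_cancel_right]
    exact hv
  intro z hz
  refine hc ⟨hk (hPk (ZN.zc_le _ hz)), mem_centralizer_iff.2 fun x hx => ?_⟩
  exact (ZN.mem_zc.1 hz).2.1 x (h.ot0 hk hKK hx)

end Sit0

end Cfsg.Agent.Omega.IId.NV.BigD
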