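import Cfsg.Agent.Omega.IId.BigD.Inst
import Cfsg.Agent.Omega.IId.Cv.Cut

/-!
# CvBig, `q = 2`, CASE 1: the socket `CvBigOne2`
-/

set_option autoImplicit false

namespace Cfsg.Agent.Omega.IId.Cv

open Subgroup Pointwise Cfsg Cfsg.Agent.ZN Cfsg.Agent.ZN.ChoiceBase
open Cfsg.Agent.Omega.MinPar Cfsg.Agent.Omega.FFThm

universe u

/-- CASE 1 of CvBig, `q = 2` (`k = 2`: `D ≠ 1`): `T = N_S(V_i)` is a Sylow 2-subgroup of `N_G(R)`, `V_i` is unmixed. -/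
def CvBigOne2 : Prop :=
  ∀ (G : Type u) [Group G] [Finite G] (S : Sylow 2 G) (P : Subgroup G)
    (F : Type) [Field F] [Finite F] [CharP F 2] (V D : Subgroup G) (k : ℕ) (M : NatD F S P V D k) (i : Fin k),
      2 ≤ k → (D ≠ ⊥ ∨ 2 < k) → NV.BigD.CCD M → UnM M i →
        ¬ 2 ∣ (NV.stab M.toNatV i).relIndex (normalizer (NV.line M.toNatV i : Set G)) → Nat.card F = 2 → False

theorem cvBigOne2 : CvBigOne2.{u} := fun _ _ _ _ _ _ _ _ _ _ _ _ _ _ hk hD hC hu hd hF =>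
  NV.BigD.Sit.false_of { toSit0 := NV.BigD.Sit0.of_unm hF hk hC hu, unm := hu, odd := hd } hD

end Cfsg.Agent.Omega.IId.Cv
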