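import Cfsg.Agent.Omega.IId.BigD.TwoHalf
import Cfsg.Agent.Omega.IId.BigD.Surv.Plug
import Cfsg.Agent.Omega.IId.CvBig.Cut

/-!
# CvBig, CASE 2a, `q = 2` (bb OMEGA 20837 (0)-(3), helper487; the rest: helper165, `Sit0.surv_false`)

`T ≥ stab M i` is maximal among the 2-subgroups of `N(V_i)` and not Sylow in `C_G(v_i)`, `D ≠ 1`.

* `Sit0.exists_x` : `x ∈ C(T₁) ∩ C(X)`, `x ≠ 1`, for a 2-group `T₁ ≥ stab M i` and all of its elements;
* `Sit0.case_B` : `O₂(C(x)) ≰ N(V_i)`;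
* `Sit0.twoA` : contradiction;
* `Cv.big2A2 : Big2A2 K`.
-/

set_option autoImplicit false
set_option linter.unusedSectionVars false

namespace Cfsg.Agent.Omega.IId.NV.BigD

open Subgroup Pointwise Cfsg Cfsg.Agent.ZN Cfsg.Agent.ZN.ChoiceBase
open Cfsg.Agent.Omega.MinPar Cfsg.Agent.Omega.FFThm
open Cfsg.Agent.MinSimple.VModule (o2_isPGroup)
open Cfsg.Agent.Omega.IId.NV
open Cfsg.Agent.Omega.IId.Big (Fr Vo conj_mem norm_of comm_of_conj conj_of_comm isPGroup_of_sq le_Vo Vo_le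
  cent_of_closure norm_o2 XX_le KK_le_XX cent_of_XX)
open Triangle (KK KK_conj KK_le_o2 mem_cent mem_KK mem_zpowers_iff_of_sq cent_conj o2_cent_conj)
open Node

universe u

local notation "cz" v:max => centralizer ({v} : Set _)
local notation "qz" v:max => ZN.o2 (centralizer ({v} : Set _))

section gen

variable {G : Type u} [Group G] [Finite G]

/-- `C_G(O₂(L)) ≤ O₂(L)` for `L ∈ L(S)` with `O₂(N_G(O₂(L))) = O₂(L)` -/
theorem cent_o2_le (hc : IsCharacteristicTwoType G) {S : Sylow 2 G} {L : Subgroup G}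
    (hL : IsLoc (S : Subgroup G) L) : centralizer (o2 L : Set G) ≤ o2 L := by
  have h1 := hL.normalizer_o2 S
  have hLN := ZN.le_normalizer_o2 L
  have h2 : o2 (normalizer (o2 L : Set G)) ≤ o2 L := MinPar.o2_le_o2 S hL.le hLN
  have h3 : o2 L ≤ o2 (normalizer (o2 L : Set G)) :=
    MinSimple.VModule.le_o2 le_normalizer (o2_isPGroup L) le_rfl
  have h4 := IsLoc.char2 S hc h1
  rw [le_antisymm h2 h3] at h4
  exact fun x hx => h4 ⟨centralizer_le_normalizer _ hx, hx⟩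

/-- a larger 2-group in `N` -/
theorem exists_larger' {T N : Subgroup G} (hT : IsPGroup 2 T) (hTN : T ≤ N) (hd : 2 ∣ T.relIndex N) :
    ∃ X : Subgroup G, IsPGroup 2 X ∧ T ≤ X ∧ X ≤ N ∧ T ≠ X := by
  have : Fact (Nat.Prime 2) := ⟨Nat.prime_two⟩
  have h1 : IsPGroup 2 (T.subgroupOf N) := hT.comap_of_injective _ N.subtype_injective
  obtain ⟨Q, hQ⟩ := h1.exists_le_sylow
  refine ⟨(Q : Subgroup N).map N.subtype, Q.2.map _, fun y hy => ⟨⟨y, hTN hy⟩, hQ hy, rfl⟩, map_subtype_le _, fun h => ?_⟩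
  have h2 : T.subgroupOf N = Q := by
    rw [h]
    exact comap_map_eq_self_of_injective N.subtype_injective _
  have h3 : ¬ 2 ∣ (Q : Subgroup N).index := Q.not_dvd_index
  apply h3
  rw [← h2]
  exact hd

end gen

variable {G : Type u} [Group G] [Finite G] {F : Type} [Field F] [Finite F] [CharP F 2] {S : Sylow 2 G}
  {P V D : Subgroup G} {k : ℕ} {M : NatD F S P V D k} {i : Fin k}

namespace Sit0

variable (h : Sit0 M i)
include h

theorem cent_o2P : centralizer (o2 P : Set G) ≤ o2 P := cent_o2_le h.c2 h.par.isLoc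

/-- an involution centralised by `stab M i` lies in `Ω₁Z(O₂(P))` -/
theorem mem_zz {x : G} (hxx : x * x = 1) (hx : ∀ t ∈ stab M.toNatV i, t * x = x * t) : x ∈ zc (o2 P) := by
  have h1 : ∀ t ∈ o2 P, t * x = x * t := fun t ht => hx t (h.o2_le_stab ht)
  have h2 : x ∈ centralizer (o2 P : Set G) := mem_centralizer_iff.2 h1
  exact ZN.mem_zc.2 ⟨h.cent_o2P h2, h1, by rw [pow_two]; exact hxx⟩

/-- the elements of `Ω₁Z(O₂(P))` are linear -/
theorem lin_zz {c s : G} (hc : c ∈ zc (o2 P)) (hs : s ∈ fac M.toNatV i) (hs1 : s ≠ 1) :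
    Lin (fac M.toNatV i) s c := by
  refine ⟨h.zz_q hs hs1 hc, fun r hr hrV => ?_⟩
  refine h.comm_of_fac (q_le_P h.cc hs hs1 (h.fr.KK_le_q hs hs1 hr)) (fun l x hx => ?_) hc
  by_cases hl : l = i
  · subst hl; exact hrV x hx
  · exact h.fr.Qc i l hl s hs hs1 r (h.fr.KK_le_q hs hs1 hr) x hx

/-- `z ∈ Ω₁Z(T)` : `z` or `v z` is centralised by `⟨W_s⟩` -/
theorem mcov {T : Subgroup G} {v z : G} (m : Mx (fac M.toNatV) i T v) (hz : z ∈ zc (o2 P))
    (hzT : ∀ t ∈ T, t * z = z * t) : Cn (fac M.toNatV i) z ∨ Cn (fac M.toNatV i) (v * z) := by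
  have hfr := h.fr
  obtain ⟨b, hb, hb1, hvb⟩ := hfr.exists_other (i := i) v
  have hvb' : v * b ∈ fac M.toNatV i := mul_mem m.vV hb
  have hbb := hfr.sq i b hb
  have hne1 : v * b ≠ 1 := fun h0 => hvb (by
    calc v = v * (b * b) := by rw [hbb, mul_one]
      _ = (v * b) * b := by group
      _ = b := by rw [h0, one_mul])
  have hzV : ∀ y ∈ fac M.toNatV i, z * y = y * z := fun y hy =>
    MinSimple.VModule.zc_comm (o2 P) z hz y (V_le_zz M (NV.fac_le _ i hy))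
  obtain ⟨a, ha, hac⟩ := exists_a hfr m.vV m.v1 hb hb1 hvb (h.lin_zz hz hb hb1) (h.lin_zz hz hvb' hne1) hzV
  obtain ⟨t, ht, e⟩ := exists_t hfr m
  have htT : t ∈ T := m.qT (hfr.KK_le_q m.vV m.v1 ht)
  by_cases ha1 : a = 1
  · left; rwa [ha1, one_mul] at hac
  by_cases hav : a = v
  · right; rwa [hav] at hac
  exfalso
  have h1 := hac.conj (m.TV htT)
  have h2 : t * (a * z) * t⁻¹ = v * (a * z) := by
    calc t * (a * z) * t⁻¹ = (t * a * t⁻¹) * (t * z * t⁻¹) := by group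
      _ = v * a * z := by rw [e a ha ha1 hav, conj_of_comm (hzT t htT)]
      _ = v * (a * z) := by group
  rw [h2] at h1
  have h3 := h1.mul hac.inv
  rw [mul_inv_cancel_right] at h3
  exact m.v1 (eq_one_of_Cn hfr m.vV h3)

/-- two distinct elements of `Ω₁Z(S)#` -/
theorem exists_two_zc (hD : D ≠ ⊥) : ∃ x ∈ zc (S : Subgroup G), ∃ y ∈ zc (S : Subgroup G), x ≠ 1 ∧ y ≠ 1 ∧ x ≠ y := by
  obtain ⟨d, hd, hd1⟩ := (Subgroup.bot_or_exists_ne_one D).resolve_left hD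
  have hD' : ∀ d ∈ D, d ∈ zc (S : Subgroup G) := by
    intro d hd
    have h1 : d ∈ zc (o2 P) := zl_le_zz M (M.D_le hd)
    exact ZN.mem_zc.2 ⟨o2_le_S M (ZN.zc_le _ h1), fun s hs => D_comm' (M := M) (h.SP hs) hd, (ZN.mem_zc.1 h1).2.2⟩
  obtain ⟨y, hy, hyD⟩ : ∃ y ∈ zc (S : Subgroup G), y ∉ D := by
    by_contra hcon
    push Not at hcon
    apply h.par.not_zc
    intro p hp
    refine centralizer_le_normalizer _ (mem_centralizer_iff.2 fun x hx => ?_)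
    exact (D_comm' (M := M) hp (hcon x hx)).symm
  exact ⟨d, hD' d hd, y, hy, hd1, fun e => hyD (e ▸ one_mem _), fun e => hyD (e ▸ hd)⟩

/-- **(1)** : `x ∈ C(T₁) ∩ C(X)` for every 2-group `T₁` which contains `T`. -/
theorem exists_x (hD : D ≠ ⊥) {T T₁ : Subgroup G} {v : G} (m : Mx (fac M.toNatV) i T v)
    (hT : stab M.toNatV i ≤ T) (hTT : T ≤ T₁) (hT₁ : IsPGroup 2 T₁) :
    ∃ x, x ≠ 1 ∧ x * x = 1 ∧ (∀ t ∈ T₁, t * x = x * t) ∧ x ∈ zc (o2 P) ∧ Cn (fac M.toNatV i) x := by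
  have : Fact (Nat.Prime 2) := ⟨Nat.prime_two⟩
  obtain ⟨S', hS'⟩ := hT₁.exists_le_sylow
  obtain ⟨x, hx, y, hy, hx1, hy1, hxy⟩ : ∃ x ∈ zc (S' : Subgroup G), ∃ y ∈ zc (S' : Subgroup G),
      x ≠ 1 ∧ y ≠ 1 ∧ x ≠ y := by
    obtain ⟨x, hx, y, hy, hx1, hy1, hxy⟩ := h.exists_two_zc hD
    obtain ⟨g, hg⟩ := MulAction.exists_smul_eq G S S'
    have key : ∀ z ∈ zc (S : Subgroup G), g * z * g⁻¹ ∈ zc (S' : Subgroup G) := by
      intro z hz
      obtain ⟨h1, h2, h3⟩ := ZN.mem_zc.1 hz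
      have hmem : ∀ s, s ∈ (S' : Subgroup G) ↔ g⁻¹ * s * g ∈ (S : Subgroup G) := by
        intro s
        rw [← hg]
        show s ∈ MulAut.conj g • (S : Subgroup G) ↔ _
        rw [Subgroup.mem_pointwise_smul_iff_inv_smul_mem, ← map_inv, MulAut.smul_def, MulAut.conj_apply, inv_inv]
      refine ZN.mem_zc.2 ⟨(hmem _).2 ?_, fun s hs => ?_, ?_⟩
      · have e : g⁻¹ * (g * z * g⁻¹) * g = z := by group
        rwa [e]
      · have h4 := h2 _ ((hmem s).1 hs)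
        calc s * (g * z * g⁻¹) = g * ((g⁻¹ * s * g) * z) * g⁻¹ := by group
          _ = g * z * g⁻¹ * s := by rw [h4]; group
      · rw [pow_two] at h3 ⊢
        calc g * z * g⁻¹ * (g * z * g⁻¹) = g * (z * z) * g⁻¹ := by group
          _ = 1 := by rw [h3]; group
    exact ⟨_, key x hx, _, key y hy, cj_ne_one hx1, cj_ne_one hy1, fun e =>
      hxy (mul_left_cancel (mul_right_cancel e))⟩
  have key : ∀ z ∈ zc (S' : Subgroup G), z * z = 1 ∧ (∀ t ∈ T₁, t * z = z * t) ∧ z ∈ zc (o2 P) ∧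
      (Cn (fac M.toNatV i) z ∨ Cn (fac M.toNatV i) (v * z)) := by
    intro z hz
    obtain ⟨h1, h2, h3⟩ := ZN.mem_zc.1 hz
    have h4 : z * z = 1 := by rw [← pow_two]; exact h3
    have h5 : ∀ t ∈ T₁, t * z = z * t := fun t ht => h2 t (hS' ht)
    have h6 : z ∈ zc (o2 P) := h.mem_zz h4 fun t ht => h5 t (hTT (hT ht))
    exact ⟨h4, h5, h6, h.mcov m h6 fun t ht => h5 t (hTT ht)⟩
  obtain ⟨a1, a2, a3, a4⟩ := key x hx
  obtain ⟨b1, b2, b3, b4⟩ := key y hy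
  rcases a4 with a4 | a4
  · exact ⟨x, hx1, a1, a2, a3, a4⟩
  rcases b4 with b4 | b4
  · exact ⟨y, hy1, b1, b2, b3, b4⟩
  have hyx : y⁻¹ = y := inv_eq_of_mul_eq_one_left b1
  obtain ⟨c1, c2, c3, -⟩ := key (x * y) (mul_mem hx hy)
  refine ⟨x * y, fun h0 => hxy ?_, c1, c2, c3, ?_⟩
  · rw [← hyx]; exact eq_inv_of_mul_eq_one_left h0
  · have hvx : v * x = x * v := by
      have hvz : v ∈ zc (o2 P) := V_le_zz M (NV.fac_le _ i m.vV)
      exact MinSimple.VModule.zc_comm (o2 P) v hvz x a3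
    have e : v * x * (v * y)⁻¹ = x * y := by
      calc v * x * (v * y)⁻¹ = v * x * y⁻¹ * v⁻¹ := by group
        _ = v * (x * y) * v⁻¹ := by rw [hyx]; group
        _ = x * y := by
          have hvz : v ∈ zc (o2 P) := V_le_zz M (NV.fac_le _ i m.vV)
          rw [MinSimple.VModule.zc_comm (o2 P) v hvz _ c3, mul_inv_cancel_right]
    rw [← e]
    exact a4.mul b4.inv

/-- a 2-subgroup of `N(V_i)` normalised by `X` centralises `V_i` -/
theorem cen_norm {N : Subgroup G} (hN2 : IsPGroup 2 N) (hNV : N ≤ normalizer (fac M.toNatV i : Set G))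
    (hXN : Big.XX (fac M.toNatV) i ≤ normalizer (N : Set G)) : N ≤ centralizer (fac M.toNatV i : Set G) := by
  obtain ⟨v, hv, hv1⟩ := exists_line M i
  have hvi := line_le _ i hv
  have hV2 : IsPGroup 2 (fac M.toNatV i) := isPGroup_of_sq fun x hx => h.fr.sq i x hx
  have hne : fac M.toNatV i ≠ ⊥ := fun h0 => hv1 (by rwa [h0, mem_bot] at hvi)
  obtain ⟨w, hw, hw1, hwN⟩ := Half.exists_fixed hV2 hne hN2 hNV
  intro x hx
  rw [mem_centralizer_iff]
  intro u hu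
  by_cases hu1 : u = 1
  · rw [hu1, one_mul, mul_one]
  obtain ⟨d, hd, hdu⟩ := xx_trans h.fr hw hu hw1 hu1
  have h1 : d⁻¹ * x * d ∈ N := by
    have := conj_mem hXN (inv_mem hd) hx
    rwa [inv_inv] at this
  have h2 := comm_of_conj (hwN _ h1)
  rw [← hdu]
  calc d * w * d⁻¹ * x = d * (w * (d⁻¹ * x * d)) * d⁻¹ := by group
    _ = x * (d * w * d⁻¹) := by rw [← h2]; group

/-- **Case (B)** : `O₂(C(x)) ≰ N(V_i)`. -/
theorem case_B {T : Subgroup G} {v x : G} (m : Mx (fac M.toNatV) i T v) (hT : stab M.toNatV i ≤ T)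
    (hxT : ∀ t ∈ T, t * x = x * t) (hxC : Cn (fac M.toNatV i) x)
    (hB : ¬ qz x ≤ normalizer (fac M.toNatV i : Set G)) :
    ∃ w ∈ normalizer (T : Set G), w * v = v * w ∧ w ∉ normalizer (fac M.toNatV i : Set G) ∧
      ∀ y ∈ fac M.toNatV i, w * y * w⁻¹ ∈ zc (o2 P) := by
  have hfact : Fact (Nat.Prime 2) := ⟨Nat.prime_two⟩
  have hfr := h.fr
  have hTx : T ≤ cz x := fun t ht => mem_cent.2 (hxT t ht)
  have hXx : Big.XX (fac M.toNatV) i ≤ cz x := fun g hg => mem_cent.2 (cent_of_XX hxC g hg)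
  obtain ⟨O, hO⟩ : ∃ O, O = qz x := ⟨_, rfl⟩
  have hO2 : IsPGroup 2 O := by rw [hO]; exact o2_isPGroup _
  have hTO : T ≤ normalizer (O : Set G) := by rw [hO]; exact hTx.trans (le_normalizer_o2 _)
  have hXO : Big.XX (fac M.toNatV) i ≤ normalizer (O : Set G) := by rw [hO]; exact hXx.trans (le_normalizer_o2 _)
  rw [← hO] at hB
  have hN : O ⊓ normalizer (fac M.toNatV i : Set G) ≤ centralizer (fac M.toNatV i : Set G) :=
    h.cen_norm (hO2.to_le inf_le_left) inf_le_right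
      (inf_norm hXO ((xx_norm hfr i).trans le_normalizer))
  obtain ⟨O₀, hO₀⟩ : ∃ O₀, O₀ = O ⊓ centralizer (fac M.toNatV i : Set G) := ⟨_, rfl⟩
  have hO₀O : O₀ ≤ O := by rw [hO₀]; exact inf_le_left
  have hO₀V : O₀ ≤ centralizer (fac M.toNatV i : Set G) := by rw [hO₀]; exact inf_le_right
  have hTO₀ : T ≤ normalizer (O₀ : Set G) := by rw [hO₀]; exact inf_norm hTO (cent_norm m.TV)
  have hO₀T : O₀ ≤ T := m.le_T (hO2.to_le hO₀O) hTO₀ (hO₀V.trans (centralizer_le_normalizer _))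
  have hlt : O₀ < O := by
    refine lt_of_le_of_ne hO₀O fun e => hB ?_
    rw [← e]
    exact hO₀V.trans (centralizer_le_normalizer _)
  have hlt2 := Lib.GoldschmidtFusion.lt_inf_normalizer hO2 hlt
  obtain ⟨w, hw, hwO₀, hwT⟩ := SideOf.exists_fixed_mod (T := T) (not_le_of_gt hlt2) inf_le_right
    (hO2.to_le inf_le_left) m.T2 hTO₀ (inf_norm hTO (hTO₀.trans le_normalizer))
  have hwn : w ∈ normalizer (O₀ : Set G) := hw.2
  have hwn' : ∀ x ∈ O₀, w⁻¹ * x * w ∈ O₀ := fun x hx => by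
    have := (mem_normalizer_iff.1 (inv_mem hwn) x).1 hx
    rwa [inv_inv] at this
  have hwNT : w ∈ normalizer (T : Set G) := by
    refine BTwo.mem_normalizer_of_conj fun t ht => ?_
    have e : w * t * w⁻¹ = (t * w * t⁻¹ * w⁻¹)⁻¹ * t := by group
    rw [e]
    exact mul_mem (inv_mem (hO₀T (hwT t ht))) ht
  obtain ⟨Ts, hTs⟩ : ∃ Ts, Ts = T ⊓ centralizer (fac M.toNatV i : Set G) := ⟨_, rfl⟩
  have hTsT : Ts ≤ T := by rw [hTs]; exact inf_le_left
  have hTsV : Ts ≤ centralizer (fac M.toNatV i : Set G) := by rw [hTs]; exact inf_le_right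
  have hO₀Ts : O₀ ≤ Ts := by rw [hTs]; exact le_inf hO₀T hO₀V
  have hPTs : o2 P ≤ Ts := by
    rw [hTs]
    refine le_inf (h.o2_le_stab.trans hT) fun x hx => mem_centralizer_iff.2 fun u hu => ?_
    exact ((ZN.mem_zc.1 (V_le_zz M (NV.fac_le _ i hu))).2.1 x hx).symm
  have hTsw : ∀ t ∈ Ts, w⁻¹ * t * w ∈ Ts := by
    intro t ht
    have h1 : t⁻¹ * w * t * w⁻¹ ∈ O₀ := by
      have := hwT t⁻¹ (inv_mem (hTsT ht))
      rwa [inv_inv] at this
    have h2 := hwn' _ h1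
    have e : w⁻¹ * t * w = t * (w⁻¹ * (t⁻¹ * w * t * w⁻¹) * w)⁻¹ := by group
    rw [e]
    exact mul_mem ht (inv_mem (hO₀Ts h2))
  -- `V_i^w ≤ ZZ`
  have hwV : ∀ b ∈ fac M.toNatV i, w * b * w⁻¹ ∈ zc (o2 P) := by
    intro b hb
    have h1 : ∀ t ∈ Ts, t * (w * b * w⁻¹) = w * b * w⁻¹ * t := by
      intro t ht
      have h1 := mem_centralizer_iff.1 (hTsV (hTsw t ht)) b hb
      calc t * (w * b * w⁻¹) = w * ((w⁻¹ * t * w) * b) * w⁻¹ := by group
        _ = w * b * w⁻¹ * t := by rw [← h1]; group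
    have h2 : w * b * w⁻¹ ∈ centralizer (o2 P : Set G) := mem_centralizer_iff.2 fun t ht => h1 t (hPTs ht)
    refine ZN.mem_zc.2 ⟨h.cent_o2P h2, fun t ht => h1 t (hPTs ht), ?_⟩
    rw [pow_two]
    calc w * b * w⁻¹ * (w * b * w⁻¹) = w * (b * b) * w⁻¹ := by group
      _ = 1 := by rw [h.fr.sq i b hb]; group
  have hwnot : w ∉ normalizer (fac M.toNatV i : Set G) := fun h0 => hwO₀ (by
    rw [hO₀]; exact ⟨hw.1, hN ⟨hw.1, h0⟩⟩)
  refine ⟨w, hwNT, ?_, hwnot, hwV⟩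
  obtain ⟨b, hb, hb1, hvb⟩ := hfr.exists_other (i := i) v
  obtain ⟨a, ha, hab⟩ := hfr.move m.vV hb m.v1 hb1 hvb
  have haT : a ∈ T := m.qT (hfr.KK_le_q m.vV m.v1 ha)
  have ho : w * a * w⁻¹ * a⁻¹ ∈ O₀ := by
    have h1 := inv_mem (hwT a haT)
    have e : (a * w * a⁻¹ * w⁻¹)⁻¹ = w * a * w⁻¹ * a⁻¹ := by group
    rwa [e] at h1
  have hOy : ∀ o ∈ O₀, o * (w * b * w⁻¹) = w * b * w⁻¹ * o := by
    intro o ho
    have h1 := mem_centralizer_iff.1 (hO₀V (hwn' o ho)) b hb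
    calc o * (w * b * w⁻¹) = w * ((w⁻¹ * o * w) * b) * w⁻¹ := by group
      _ = w * b * w⁻¹ * o := by rw [← h1]; group
  have hOv : ∀ o ∈ O₀, o * v = v * o := fun o ho => (mem_centralizer_iff.1 (hO₀V ho) v m.vV).symm
  have key : w * v * w⁻¹ = (w * a * w⁻¹ * a⁻¹) * (a * (w * b * w⁻¹) * a⁻¹) * (w * a * w⁻¹ * a⁻¹)⁻¹ *
      (w * b * w⁻¹)⁻¹ := by
    have e : v = a * b * a⁻¹ * b⁻¹ := by rw [hab, mul_inv_cancel_right]
    calc w * v * w⁻¹ = w * (a * b * a⁻¹ * b⁻¹) * w⁻¹ := by rw [← e]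
      _ = _ := by group
  rcases hfr.KK_act m.vV ha (h.zz_q m.vV m.v1 (hwV b hb)) with h1 | h1
  · rw [h1, hOy _ ho, mul_inv_cancel_right, mul_inv_cancel] at key
    exact (m.v1 (by
      calc v = w⁻¹ * (w * v * w⁻¹) * w := by group
        _ = 1 := by rw [key]; group)).elim
  · rw [h1] at key
    have h2 : (w * a * w⁻¹ * a⁻¹) * (v * (w * b * w⁻¹)) = v * (w * b * w⁻¹) * (w * a * w⁻¹ * a⁻¹) := by
      calc (w * a * w⁻¹ * a⁻¹) * (v * (w * b * w⁻¹)) = ((w * a * w⁻¹ * a⁻¹) * v) * (w * b * w⁻¹) := by group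
        _ = v * ((w * a * w⁻¹ * a⁻¹) * (w * b * w⁻¹)) := by rw [hOv _ ho]; group
        _ = _ := by rw [hOy _ ho]; group
    rw [h2, mul_inv_cancel_right, mul_inv_cancel_right] at key
    exact comm_of_conj key

/-- **CASE 2a, `q = 2`**: `T` is Sylow in `N_G(line M i)`. -/
theorem twoA (hD : D ≠ ⊥) {T : Subgroup G} {v : G} (hv : v ∈ line M.toNatV i) (m : Mx (fac M.toNatV) i T v)
    (hT : stab M.toNatV i ≤ T) : ¬ 2 ∣ T.relIndex (normalizer (line M.toNatV i : Set G)) := by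
  intro hd
  have hfact : Fact (Nat.Prime 2) := ⟨Nat.prime_two⟩
  have hfr := h.fr
  have hv1 := m.v1
  rw [h.norm_line hv hv1] at hd
  obtain ⟨T₁, hT₁, hTT, hTv, hne⟩ := exists_larger' m.T2 (fun t ht => mem_cent.2 (m.Tv t ht)) hd
  obtain ⟨x, hx1, hxx, hxT₁, hxz, hxC⟩ := h.exists_x hD m hT hTT hT₁
  have hxT : ∀ t ∈ T, t * x = x * t := fun t ht => hxT₁ t (hTT ht)
  -- `w`
  obtain ⟨w, hw, hwv, hwV, hcomm, hL⟩ : ∃ w ∈ normalizer (T : Set G), w * v = v * w ∧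
      w ∉ normalizer (fac M.toNatV i : Set G) ∧
      (∀ z ∈ fac M.toNatV i, ∀ y ∈ fac M.toNatV i, w * y * w⁻¹ * z = z * (w * y * w⁻¹)) ∧
      ∀ y ∈ fac M.toNatV i, ∀ s ∈ fac M.toNatV i, s ≠ 1 → s ≠ v → Lin (fac M.toNatV i) s (w * y * w⁻¹) := by
    by_cases hB : qz x ≤ normalizer (fac M.toNatV i : Set G)
    · -- Case (A)
      have hXx : Big.XX (fac M.toNatV) i ≤ cz x := fun g hg => mem_cent.2 (cent_of_XX hxC g hg)
      have h1 := h.cen_norm (o2_isPGroup (cz x)) hB (hXx.trans (le_normalizer_o2 _))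
      have h2 : ∀ y ∈ fac M.toNatV i, ∀ q ∈ qz x, y * q = q * y := fun y hy q hq =>
        mem_centralizer_iff.1 (h1 hq) y hy
      have h3 : fac M.toNatV i ≤ qz x := fun y hy => by
        refine Big.Supply.cz_char2 h.c2 hxx hx1 ⟨mem_cent.2 ?_, mem_centralizer_iff.2 fun q hq => (h2 y hy q hq).symm⟩
        exact MinSimple.VModule.zc_comm (o2 P) y (V_le_zz M (NV.fac_le _ i hy)) x hxz
      have hlt2 := Lib.GoldschmidtFusion.lt_inf_normalizer hT₁ (lt_of_le_of_ne hTT hne)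
      obtain ⟨w, ⟨hwT₁, hwN⟩, hwT⟩ := SetLike.exists_of_lt hlt2
      have hwv : w * v = v * w := mem_cent.1 (hTv hwT₁)
      refine ⟨w, hwN, hwv, fun h0 => hwT ?_, lin_half hfr m hxT (hxT₁ w hwT₁) hxC hwN hwv h3 h2⟩
      have h4 : T ⊔ zpowers w ≤ T := m.mx _ (hT₁.to_le (sup_le hTT (by rwa [zpowers_le]))) le_sup_left
        (sup_le m.TV (by rwa [zpowers_le]))
      exact h4 (mem_sup_right (mem_zpowers w))
    · -- Case (B)
      obtain ⟨w, hw, hwv, hwV, hwz⟩ := h.case_B m hT hxT hxC hB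
      exact ⟨w, hw, hwv, hwV, fun z hz y hy =>
        MinSimple.VModule.zc_comm (o2 P) _ (hwz y hy) z (V_le_zz M (NV.fac_le _ i hz)),
        fun y hy s hs hs1 _ => h.lin_zz (hwz y hy) hs hs1⟩
  obtain ⟨a, ha, ha1, hav, y, hy, hy1, hyv, k', he, hk1, hkk, hkT, hkC, hkV⟩ :=
    exists_k hfr m hw hwv hwV hcomm hL
  have hkz : k' ∈ zc (o2 P) := h.mem_zz hkk fun t ht => hkT t (hT ht)
  -- `k^(w⁻¹)`
  have hkw : ∀ t ∈ T, t * (w⁻¹ * k' * w) = w⁻¹ * k' * w * t := by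
    intro t ht
    have h1 : w * t * w⁻¹ ∈ T := (mem_normalizer_iff.1 hw t).1 ht
    have h2 := hkT _ h1
    calc t * (w⁻¹ * k' * w) = w⁻¹ * ((w * t * w⁻¹) * k') * w := by group
      _ = w⁻¹ * k' * w * t := by rw [h2]; group
  have hkwz : w⁻¹ * k' * w ∈ zc (o2 P) := by
    refine h.mem_zz ?_ fun t ht => hkw t (hT ht)
    calc w⁻¹ * k' * w * (w⁻¹ * k' * w) = w⁻¹ * (k' * k') * w := by group
      _ = 1 := by rw [hkk]; group
  have h7 : Cn (fac M.toNatV i) (w⁻¹ * k' * w) ∨ Cn (fac M.toNatV i) (w⁻¹ * (v * k') * w) := by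
    rcases h.mcov m hkwz hkw with h1 | h1
    · exact Or.inl h1
    · right
      have e : w⁻¹ * (v * k') * w = v * (w⁻¹ * k' * w) := by
        calc w⁻¹ * (v * k') * w = w⁻¹ * v * k' * w := by group
          _ = v * (w⁻¹ * k' * w) := by
            have h2 : w⁻¹ * v = v * w⁻¹ := by
              rw [eq_mul_inv_iff_mul_eq, mul_assoc, ← hwv, inv_mul_cancel_left]
            rw [h2]; group
      rwa [e]
  obtain ⟨g, hg, hgk, hgF⟩ := exists_gamma hfr m hwv ha ha1 hav hy hy1 hyv he hkk hkC hkV h7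
  exact h.surv_false hv hv1 hkz hk1 hkC (fun t ht => hkT t (hT ht)) hg hgk hgF

end Sit0

end Cfsg.Agent.Omega.IId.NV.BigD
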