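import Cfsg.Agent.Omega.IId.BigD.TwoNode

/-!
# CvBig, `q = 2`, CASE 2a (bb OMEGA 20837, (2) (A)): the conjugate `(V i)^w` is linear

`x ≠ 1` is centralised by `T`, `w` and `⟨W_s⟩`, `V i ≤ Z(O₂(C(x)))`: 994's #17699 (2), (3).
-/

set_option autoImplicit false
set_option linter.unusedSectionVars false

namespace Cfsg.Agent.Omega.IId.NV.BigD.Node

open Subgroup Cfsg
open Cfsg.Agent.ZN (o2 zc)
open Cfsg.Agent.MinSimple.VModule (le_o2 le_normalizer_o2 mem_zc o2_isPGroup o2_le)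
open Cfsg.Agent.Omega.IId.Big
open Triangle (KK KK_conj KK_le_o2 mem_cent mem_KK mem_zpowers_iff_of_sq cent_conj o2_cent_conj)

universe u

variable {G : Type u} [Group G] [Finite G] {ι : Type} {S : Subgroup G} {V : ι → Subgroup G}

omit [Finite G] in
theorem mem_qz_conj {g s y : G} (hy : y ∈ qz s) : g * y * g⁻¹ ∈ qz (g * s * g⁻¹) := by
  show g * y * g⁻¹ ∈ o2 (centralizer ({g * s * g⁻¹} : Set G))
  rw [o2_cent_conj]
  exact ⟨y, hy, rfl⟩

omit [Finite G] in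
theorem mem_qz_conj' {g s y : G} (hy : y ∈ qz (g * s * g⁻¹)) : g⁻¹ * y * g ∈ qz s := by
  have h1 := mem_qz_conj (g := g⁻¹) hy
  have e : g⁻¹ * (g * s * g⁻¹) * g⁻¹⁻¹ = s := by group
  rwa [e, inv_inv] at h1

omit [Finite G] in
theorem cent_norm {A B : Subgroup G} (h : A ≤ normalizer (B : Set G)) :
    A ≤ normalizer (centralizer (B : Set G) : Set G) := by
  refine norm_of fun a ha x hx => ?_
  rw [mem_centralizer_iff] at hx ⊢
  intro b hb
  have h1 : a⁻¹ * b * a ∈ B := by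
    have := (mem_normalizer_iff.1 (inv_mem (h ha)) b).1 hb
    rwa [inv_inv] at this
  have h2 := hx _ h1
  calc b * (a * x * a⁻¹) = a * ((a⁻¹ * b * a) * x) * a⁻¹ := by group
    _ = a * x * a⁻¹ * b := by rw [h2]; group

omit [Finite G] in
theorem inf_norm {A B C : Subgroup G} (h : A ≤ normalizer (B : Set G)) (h' : A ≤ normalizer (C : Set G)) :
    A ≤ normalizer ((B ⊓ C : Subgroup G) : Set G) :=
  norm_of fun _ ha _ hx => ⟨conj_mem h ha hx.1, conj_mem h' ha hx.2⟩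

section gen

variable (h : Fr S V) (i : ι)
include h

/-- `⟨W_s : s ∈ V_i#⟩ ≤ N(V_i)` -/
theorem xx_norm : Big.XX V i ≤ normalizer (V i : Set G) := by
  refine XX_le fun v hv hv1 => norm_of fun g hg x hx => ?_
  rcases h.KK_act hv hg (h.VQ i i v hv hv1 hx) with h1 | h1
  · rw [h1]; exact hx
  · rw [h1]; exact mul_mem hv hx

variable {i}

/-- `⟨W_s : s ∈ V_i#⟩` is transitive on `V_i#` -/
theorem xx_trans {v w : G} (hv : v ∈ V i) (hw : w ∈ V i) (hv1 : v ≠ 1) (hw1 : w ≠ 1) :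
    ∃ d ∈ Big.XX V i, d * v * d⁻¹ = w := by
  by_cases hvw : v = w
  · exact ⟨1, one_mem _, by rw [hvw]; group⟩
  have h2 := h.sq i v hv
  have h1 : w * v ≠ 1 := fun h0 => hvw (by
    have : v = w⁻¹ := eq_inv_of_mul_eq_one_right h0
    rw [this]
    exact inv_eq_of_mul_eq_one_left (h.sq i w hw))
  have h3 : w * v ≠ v := fun h0 => hw1 (mul_eq_right.1 h0)
  obtain ⟨g, hg, e⟩ := h.move (mul_mem hw hv) hv h1 hv1 h3
  refine ⟨g, KK_le_XX (mul_mem hw hv) h1 hg, ?_⟩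
  rw [e, mul_assoc, h2, mul_one]

/-- `x ∈ Z(O₂(C(v)))` centralised by `⟨W_s⟩` lies in `Z(O₂(C(s)))` -/
theorem mem_qz_of {v s x : G} (hv : v ∈ V i) (hv1 : v ≠ 1) (hs : s ∈ V i) (hs1 : s ≠ 1) (hx : Cn (V i) x)
    (h1 : x ∈ qz v) (h2 : ∀ q ∈ qz v, x * q = q * x) : x ∈ qz s ∧ ∀ q ∈ qz s, x * q = q * x := by
  obtain ⟨e, he, hes⟩ := xx_trans h hv hs hv1 hs1
  have hex : e * x * e⁻¹ = x := conj_of_comm (cent_of_XX hx e he)
  refine ⟨?_, fun q hq => ?_⟩
  · have h3 := mem_qz_conj (g := e) h1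
    rwa [hex, hes] at h3
  · rw [← hes] at hq
    have h3 := h2 _ (mem_qz_conj' hq)
    calc x * q = e * x * e⁻¹ * q := by rw [hex]
      _ = e * (x * (e⁻¹ * q * e)) * e⁻¹ := by group
      _ = q * (e * x * e⁻¹) := by rw [h3]; group
      _ = q * x := by rw [hex]

end gen

namespace Mx

variable {i : ι} {T : Subgroup G} {v : G} (m : Mx V i T v)
include m

/-- `O₂(C(s)) ∩ C(V i) ≤ T` -/
theorem qV_T {s : G} (hs : s ∈ V i) : qz s ⊓ centralizer (V i : Set G) ≤ T := by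
  have h1 : o2 (centralizer (V i : Set G)) ≤ T := by
    refine m.le_T (o2_isPGroup _) (norm_o2 (cent_norm m.TV)) ?_
    exact (o2_le _).trans (centralizer_le_normalizer _)
  refine le_trans ?_ h1
  refine le_o2 inf_le_right ((o2_isPGroup _).to_le inf_le_left) (inf_norm ?_ le_normalizer)
  refine le_trans (fun x hx => ?_) (le_normalizer_o2 _)
  exact mem_cent.2 (mem_centralizer_iff.1 hx s hs).symm

end Mx

section main

variable (h : Fr S V) {i : ι} {T : Subgroup G} {v w x : G} (m : Mx V i T v)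
include h m

theorem x_mem_qz (hxT : ∀ t ∈ T, t * x = x * t) : x ∈ qz v ∧ ∀ q ∈ qz v, x * q = q * x := by
  have h1 : ∀ q ∈ qz v, x * q = q * x := fun q hq => (hxT q (m.qT hq)).symm
  have h2 : v ∈ T := m.qT (h.VQ i i v m.vV m.v1 m.vV)
  exact ⟨h.c2 i v m.vV m.v1 ⟨mem_cent.2 (hxT v h2).symm, mem_centralizer_iff.2 fun q hq => (h1 q hq).symm⟩, h1⟩

/-- **#17699 (2), (3).** -/
theorem lin_half (hxT : ∀ t ∈ T, t * x = x * t) (hxw : w * x = x * w) (hxC : Cn (V i) x)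
    (hw : w ∈ normalizer (T : Set G)) (hwv : w * v = v * w) (hVx : V i ≤ qz x)
    (hVx' : ∀ y ∈ V i, ∀ q ∈ qz x, y * q = q * y) :
    (∀ z ∈ V i, ∀ y ∈ V i, w * y * w⁻¹ * z = z * (w * y * w⁻¹)) ∧
      ∀ y ∈ V i, ∀ s ∈ V i, s ≠ 1 → s ≠ v → Lin (V i) s (w * y * w⁻¹) := by
  have hwx : w ∈ cz x := mem_cent.2 hxw
  have hcx : ∀ y ∈ V i, w * y * w⁻¹ ∈ qz x := fun y hy => conj_mem (le_normalizer_o2 _) hwx (hVx hy)
  have hcomm : ∀ z ∈ V i, ∀ y ∈ V i, w * y * w⁻¹ * z = z * (w * y * w⁻¹) :=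
    fun z hz y hy => (hVx' z hz _ (hcx y hy)).symm
  refine ⟨hcomm, fun y hy s hs hs1 hsv => ?_⟩
  obtain ⟨c, hc⟩ : ∃ c, c = w * y * w⁻¹ := ⟨_, rfl⟩
  have hcV : ∀ z ∈ V i, c * z = z * c := fun z hz => by rw [hc]; exact hcomm z hz y hy
  have hcx' : c ∈ qz x := by rw [hc]; exact hcx y hy
  have hact : ∀ t ∈ T, t * c * t⁻¹ = c ∨ t * c * t⁻¹ = v * c := fun t ht => by
    rw [hc]; exact m.T_act' h hw hwv ht hy
  rw [← hc]
  obtain ⟨hxv, hxv'⟩ := x_mem_qz h m hxT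
  obtain ⟨hxs, hxs'⟩ := mem_qz_of h m.vV m.v1 hs hs1 hxC hxv hxv'
  -- `A = ⟨x^{C(s)}⟩`
  obtain ⟨A, hA⟩ : ∃ A, A = cl (zpowers x) (cz s) := ⟨_, rfl⟩
  have hAq : A ≤ qz s ⊓ centralizer (qz s : Set G) := by
    rw [hA]
    refine cl_le fun g hg a ha => ?_
    have h1 : zpowers x ≤ qz s ⊓ centralizer (qz s : Set G) := by
      rw [zpowers_le]
      exact ⟨hxs, mem_centralizer_iff.2 fun q hq => (hxs' q hq).symm⟩
    exact conj_mem (inf_norm (le_normalizer_o2 _) (cent_norm (le_normalizer_o2 _))) hg (h1 ha)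
  have hAn : cz s ≤ normalizer (A : Set G) := by rw [hA]; exact cl_norm
  have hxA : x ∈ A := by rw [hA]; exact le_cl (mem_zpowers x)
  have hVs : V i ≤ qz s := h.VQ i i s hs hs1
  have hAT : A ≤ T := fun a ha => m.qV_T hs ⟨(hAq ha).1, mem_centralizer_iff.2 fun z hz =>
    mem_centralizer_iff.1 (hAq ha).2 z (hVs hz)⟩
  have hvA : v ∉ A := by
    intro h0
    obtain ⟨t, ht, h6⟩ := h.move hs m.vV hs1 m.v1 hsv
    have h7 := mem_centralizer_iff.1 (hAq h0).2 t (h.KK_le_q hs hs1 ht)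
    rw [h7, mul_inv_cancel_right] at h6
    exact hs1 (right_eq_mul.1 h6)
  have hcs : c ∈ cz s := mem_cent.2 (hcV s hs)
  have hcA : ∀ a ∈ A, a * c = c * a := by
    intro a ha
    rcases hact a (hAT ha) with h1 | h1
    · exact comm_of_conj h1
    · exfalso
      apply hvA
      have h2 : v = a * (c * a⁻¹ * c⁻¹) := by
        calc v = (v * c) * c⁻¹ := by group
          _ = a * (c * a⁻¹ * c⁻¹) := by rw [← h1]; group
      rw [h2]
      exact mul_mem ha (conj_mem hAn hcs (inv_mem ha))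
  -- `c ∈ O₂(C(s))`
  have hcq : c ∈ qz s := by
    have hK : cz s ⊓ centralizer (A : Set G) ≤ cz x := fun z hz =>
      mem_cent.2 (mem_centralizer_iff.1 hz.2 x hxA).symm
    have h1 : (cz s ⊓ centralizer (A : Set G)) ⊓ qz x ≤ qz s := by
      refine le_o2_of (C := cz s ⊓ centralizer (A : Set G)) ((o2_isPGroup _).to_le inf_le_right) inf_le_left
        (inf_norm le_normalizer (hK.trans (le_normalizer_o2 _))) inf_le_left
        (inf_norm le_normalizer (cent_norm hAn))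
    exact h1 ⟨⟨hcs, mem_centralizer_iff.2 hcA⟩, hcx'⟩
  refine ⟨hcq, fun r hr hrV => ?_⟩
  have hrT : r ∈ T := m.qV_T hs ⟨h.KK_le_q hs hs1 hr, mem_centralizer_iff.2 fun z hz => (hrV z hz).symm⟩
  rcases hact r hrT with h1 | h1
  · exact comm_of_conj h1
  · exfalso
    rcases h.KK_act hs hr hcq with h2 | h2
    · rw [h1] at h2
      exact m.v1 (mul_eq_right.1 h2)
    · rw [h1] at h2
      exact hsv (mul_right_cancel h2).symm

end main

end Cfsg.Agent.Omega.IId.NV.BigD.Node
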