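import Cfsg.Agent.Omega.IId.Big.Base
import Cfsg.Agent.Omega.BTwo.Conj

/-!
# CvBig, `q = 2`, CASE 2a (bb OMEGA 20837, (3)): the element `k` and `γ`

Over 428's frame `Fr S V`, `i` an index, `v ∈ V i`:

* `Cn A c` : `c` is centralised by all `W_s`, `s ∈ A#`;
* `Lin A s c` : `c ∈ O₂(C(s))`, and the elements of `W_s` which centralise `A` centralise `c`;
* `exists_a` : `a c` is centralised by all `W_s` for some `a ∈ V i`;
* `Mx V i T v` : `T` is maximal among the 2-subgroups of `N(V i)`, `T ≤ C(v)`, `O₂(C(v)) ≤ T`;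
* `exists_k` : `w ∈ N(T) ∩ C(v)`, `w ∉ N(V i)`, the elements of `(V i)^w` are linear: `a k ∈ (V i)^w`, `k ∈ C(T, X)`;
* `seven` : the 7-point case is impossible;
* `exists_gamma` : `v^γ = v k`, `k^γ = k`, `γ ∈ N(V i ⟨k⟩)`.
-/

set_option autoImplicit false
set_option linter.unusedSectionVars false

namespace Cfsg.Agent.Omega.IId.NV.BigD.Node

open Subgroup Cfsg
open Cfsg.Agent.ZN (o2 zc)
open Cfsg.Agent.MinSimple.VModule (le_o2 le_normalizer_o2 mem_zc o2_isPGroup o2_le)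
open Cfsg.Agent.Omega.IId.Big
open Triangle (KK KK_conj KK_le_o2 mem_cent mem_KK mem_zpowers_iff_of_sq cent_conj o2_cent_conj)

universe u

variable {G : Type u} [Group G] [Finite G] {ι : Type} {S : Subgroup G} {V : ι → Subgroup G}

/-- `c` is centralised by `⟨W_s : s ∈ A#⟩` -/
def Cn (A : Subgroup G) (c : G) : Prop := ∀ s ∈ A, s ≠ 1 → ∀ g ∈ KK s, g * c = c * g

/-- `c` is linear at `s` -/
def Lin (A : Subgroup G) (s c : G) : Prop :=
  c ∈ qz s ∧ ∀ r ∈ KK s, (∀ x ∈ A, r * x = x * r) → r * c = c * r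

theorem inv_of_sq {x : G} (h : x * x = 1) : x⁻¹ = x := inv_eq_of_mul_eq_one_left h

section fr

variable (h : Fr S V) {i : ι}
include h

theorem comm_all {s x r : G} (hs : s ∈ V i) (hs1 : s ≠ 1) (hx : x ∈ V i) (hx1 : x ≠ 1) (hsx : s ≠ x)
    (h1 : r * s = s * r) (h2 : r * x = x * r) : ∀ y ∈ V i, r * y = y * r := by
  intro y hy
  rcases h.cases4 hs hx hs1 hx1 hsx hy with rfl | rfl | rfl | rfl
  · simp
  · exact h1
  · exact h2
  · rw [← mul_assoc, h1, mul_assoc, h2, mul_assoc]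

theorem dich {s x c : G} (hs : s ∈ V i) (hs1 : s ≠ 1) (hx : x ∈ V i) (hx1 : x ≠ 1) (hsx : s ≠ x)
    (hL : Lin (V i) s c) (hcV : ∀ y ∈ V i, c * y = y * c) :
    (∀ r ∈ KK s, r * c = c * r) ∨ ∀ r ∈ KK s, r * (x * c) = x * c * r := by
  obtain ⟨a, ha, hax⟩ := h.move hs hx hs1 hx1 hsx
  have has := Fr.KK_comm ha
  have hss := h.sq i s hs
  have hinvs := inv_of_sq hss
  -- the two kinds of elements of `W_s`
  have key : ∀ r ∈ KK s, (∀ y ∈ V i, r * y = y * r) ∨ ∀ y ∈ V i, a⁻¹ * r * y = y * (a⁻¹ * r) := by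
    intro r hr
    have hrs := Fr.KK_comm hr
    rcases h.KK_act hs hr (h.VQ i i s hs hs1 hx) with h1 | h1
    · exact Or.inl (comm_all h hs hs1 hx hx1 hsx hrs (comm_of_conj h1))
    · right
      refine comm_all h hs hs1 hx hx1 hsx ?_ ?_
      · have h2 : a⁻¹ * s = s * a⁻¹ := by
          rw [eq_mul_inv_iff_mul_eq, mul_assoc, ← has, inv_mul_cancel_left]
        calc a⁻¹ * r * s = a⁻¹ * (r * s) := by group
          _ = (a⁻¹ * s) * r := by rw [hrs]; group
          _ = s * (a⁻¹ * r) := by rw [h2]; group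
      · have h2 : r * x * r⁻¹ = a * x * a⁻¹ := by rw [h1, hax]
        calc a⁻¹ * r * x = a⁻¹ * (r * x * r⁻¹) * r := by group
          _ = x * (a⁻¹ * r) := by rw [h2]; group
  rcases h.KK_act hs ha hL.1 with h1 | h1
  · left
    have h2 := comm_of_conj h1
    intro r hr
    rcases key r hr with h3 | h3
    · exact hL.2 r hr h3
    · have h4 := hL.2 _ (mul_mem (inv_mem ha) hr) h3
      calc r * c = a * (a⁻¹ * r * c) := by group
        _ = (a * c) * (a⁻¹ * r) := by rw [h4]; group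
        _ = c * r := by rw [h2]; group
  · right
    have hcs : c * s = s * c := hcV s hs
    have h2 : a * (x * c) = x * c * a := by
      have h5 : a * (x * c) * a⁻¹ = x * c := by
        calc a * (x * c) * a⁻¹ = (a * x * a⁻¹) * (a * c * a⁻¹) := by group
          _ = (s * x) * (s * c) := by rw [hax, h1]
          _ = (x * s) * (s * c) := by rw [h.comm i i s hs x hx]
          _ = x * (s * s) * c := by group
          _ = x * c := by rw [hss, mul_one]
      exact comm_of_conj h5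
    have h6 : ∀ r ∈ KK s, (∀ y ∈ V i, r * y = y * r) → r * (x * c) = x * c * r := by
      intro r hr h3
      have h4 := hL.2 r hr h3
      have h5 := h3 x hx
      calc r * (x * c) = (r * x) * c := by group
        _ = x * (r * c) := by rw [h5]; group
        _ = x * c * r := by rw [h4]; group
    intro r hr
    rcases key r hr with h3 | h3
    · exact h6 r hr h3
    · have h4 := h6 _ (mul_mem (inv_mem ha) hr) h3
      calc r * (x * c) = a * (a⁻¹ * r * (x * c)) := by group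
        _ = (a * (x * c)) * (a⁻¹ * r) := by rw [h4]; group
        _ = x * c * r := by rw [h2]; group

/-- `W_v ≤ ⟨W_b, W_{vb}⟩` -/
theorem K_gen {v b y : G} (hv : v ∈ V i) (hv1 : v ≠ 1) (hb : b ∈ V i) (hb1 : b ≠ 1) (hvb : v ≠ b)
    (h1 : ∀ g ∈ KK b, g * y = y * g) (h2 : ∀ g ∈ KK (v * b), g * y = y * g) : Cn (V i) y := by
  have hvb' : v * b ∈ V i := mul_mem hv hb
  have hbb := h.sq i b hb
  have hvv := h.sq i v hv
  have hne1 : v * b ≠ 1 := fun h0 => hvb (by
    calc v = v * (b * b) := by rw [hbb, mul_one]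
      _ = (v * b) * b := by group
      _ = b := by rw [h0, one_mul])
  have hne2 : v * b ≠ b := fun h0 => hv1 (mul_eq_right.1 h0)
  obtain ⟨s, hs, hsb⟩ := h.move hvb' hb hne1 hb1 hne2
  have h3 : s * b * s⁻¹ = v := by rw [hsb, mul_assoc, hbb, mul_one]
  have h4 : ∀ g ∈ KK v, g * y = y * g := by
    intro g hg
    have h5 : s⁻¹ * g * s ∈ KK b := by
      have h6 := KK_conj (h := s⁻¹) hg
      have e : s⁻¹ * v * s⁻¹⁻¹ = b := by rw [← h3]; group
      rwa [e, inv_inv] at h6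
    have c1 : Commute (s⁻¹ * g * s) y := h1 _ h5
    have c2 : Commute s y := h2 s hs
    have c3 := (c2.mul_left c1).mul_left c2.inv_left
    have e : s * (s⁻¹ * g * s) * s⁻¹ = g := by group
    rw [e] at c3
    exact c3.eq
  intro x hx hx1 g hg
  rcases h.cases4 hv hb hv1 hb1 hvb hx with rfl | rfl | rfl | rfl
  · exact absurd rfl hx1
  · exact h4 g hg
  · exact h1 g hg
  · exact h2 g hg

theorem exists_a {v b c : G} (hv : v ∈ V i) (hv1 : v ≠ 1) (hb : b ∈ V i) (hb1 : b ≠ 1) (hvb : v ≠ b)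
    (hL : Lin (V i) b c) (hL' : Lin (V i) (v * b) c) (hcV : ∀ y ∈ V i, c * y = y * c) :
    ∃ a ∈ V i, Cn (V i) (a * c) := by
  have hvb' : v * b ∈ V i := mul_mem hv hb
  have hbb := h.sq i b hb
  have hvv := h.sq i v hv
  have hne1 : v * b ≠ 1 := fun h0 => hvb (by
    calc v = v * (b * b) := by rw [hbb, mul_one]
      _ = (v * b) * b := by group
      _ = b := by rw [h0, one_mul])
  have hne3 : v * b ≠ v := fun h0 => hb1 (mul_eq_left.1 h0)
  have hbv : b * v = v * b := h.comm i i b hb v hv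
  rcases dich h hb hb1 hv hv1 (Ne.symm hvb) hL hcV with h1 | h1 <;>
    rcases dich h hvb' hne1 hv hv1 hne3 hL' hcV with h2 | h2
  · exact ⟨1, one_mem _, K_gen h hv hv1 hb hb1 hvb (by simpa using h1) (by simpa using h2)⟩
  · refine ⟨b, hb, K_gen h hv hv1 hb hb1 hvb (fun g hg => ?_) (fun g hg => ?_)⟩
    · have h3 : Commute g b := Fr.KK_comm hg
      have h4 : Commute g c := h1 g hg
      exact (h3.mul_right h4).eq
    · have h3 : Commute g (v * b) := Fr.KK_comm hg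
      have h4 : Commute g (v * c) := h2 g hg
      have e : b * c = v * b * (v * c) := by
        calc b * c = b * (v * v) * c := by rw [hvv, mul_one]
          _ = (b * v) * (v * c) := by group
          _ = v * b * (v * c) := by rw [hbv]
      rw [e]
      exact (h3.mul_right h4).eq
  · refine ⟨v * b, hvb', K_gen h hv hv1 hb hb1 hvb (fun g hg => ?_) (fun g hg => ?_)⟩
    · have h3 : Commute g b := Fr.KK_comm hg
      have h4 : Commute g (v * c) := h1 g hg
      have e : v * b * c = b * (v * c) := by rw [← hbv]; group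
      rw [e]
      exact (h3.mul_right h4).eq
    · have h3 : Commute g (v * b) := Fr.KK_comm hg
      have h4 : Commute g c := h2 g hg
      exact (h3.mul_right h4).eq
  · exact ⟨v, hv, K_gen h hv hv1 hb hb1 hvb h1 h2⟩

/-- an element of `V i` centralised by all `W_s` is trivial -/
theorem eq_one_of_Cn {x : G} (hx : x ∈ V i) (hc : Cn (V i) x) : x = 1 := by
  by_contra hx1
  obtain ⟨s, hs, hs1, hxs⟩ := h.exists_other (i := i) x
  obtain ⟨g, hg, hgx⟩ := h.move hs hx hs1 hx1 (Ne.symm hxs)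
  rw [hc s hs hs1 g hg, mul_inv_cancel_right] at hgx
  exact hs1 (right_eq_mul.1 hgx)

omit [Finite G] h in
theorem Cn.mul {A : Subgroup G} {x y : G} (hx : Cn A x) (hy : Cn A y) : Cn A (x * y) := fun s hs hs1 g hg => by
  have h1 : Commute g x := hx s hs hs1 g hg
  have h2 : Commute g y := hy s hs hs1 g hg
  exact (h1.mul_right h2).eq

omit [Finite G] h in
theorem Cn.inv {A : Subgroup G} {x : G} (hx : Cn A x) : Cn A x⁻¹ := fun s hs hs1 g hg => by
  have h1 : Commute g x := hx s hs hs1 g hg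
  exact h1.inv_right.eq

omit [Finite G] h in
/-- `Cn` is invariant under `N(A)` -/
theorem Cn.conj {A : Subgroup G} {x t : G} (hx : Cn A x) (ht : t ∈ normalizer (A : Set G)) : Cn A (t * x * t⁻¹) := by
  intro s hs hs1 g hg
  have hs' : t⁻¹ * s * t ∈ A := by
    have := (mem_normalizer_iff.1 (inv_mem ht) s).1 hs
    rwa [inv_inv] at this
  have hs1' : t⁻¹ * s * t ≠ 1 := fun h0 => hs1 (by
    calc s = t * (t⁻¹ * s * t) * t⁻¹ := by group
      _ = 1 := by rw [h0]; group)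
  have hg' : t⁻¹ * g * t ∈ KK (t⁻¹ * s * t) := by
    have h6 := KK_conj (h := t⁻¹) hg
    rwa [inv_inv] at h6
  have h1 := hx _ hs' hs1' _ hg'
  calc g * (t * x * t⁻¹) = t * ((t⁻¹ * g * t) * x) * t⁻¹ := by group
    _ = t * x * t⁻¹ * g := by rw [h1]; group

end fr

/-- `T` is maximal among the 2-subgroups of `N(V i)` -/
structure Mx (V : ι → Subgroup G) (i : ι) (T : Subgroup G) (v : G) : Prop where
  vV : v ∈ V i
  v1 : v ≠ 1
  T2 : IsPGroup 2 T
  TV : T ≤ normalizer (V i : Set G)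
  Tv : ∀ t ∈ T, t * v = v * t
  qT : qz v ≤ T
  mx : ∀ A : Subgroup G, IsPGroup 2 A → T ≤ A → A ≤ normalizer (V i : Set G) → A ≤ T

namespace Mx

variable {i : ι} {T : Subgroup G} {v : G} (m : Mx V i T v)
include m

theorem le_T {A : Subgroup G} (hA : IsPGroup 2 A) (hTA : T ≤ normalizer (A : Set G))
    (hAV : A ≤ normalizer (V i : Set G)) : A ≤ T := by
  have : Fact (Nat.Prime 2) := ⟨Nat.prime_two⟩
  have h1 : IsPGroup 2 (A ⊔ T : Subgroup G) := IsPGroup.to_sup_of_normal_left' hA m.T2 hTA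
  exact le_sup_left.trans (m.mx _ h1 le_sup_right (sup_le hAV m.TV))

theorem conj_T {w t : G} (hw : w ∈ normalizer (T : Set G)) (ht : t ∈ T) : w⁻¹ * t * w ∈ T := by
  have := (mem_normalizer_iff.1 (inv_mem hw) t).1 ht
  rwa [inv_inv] at this

theorem T_act (h : Fr S V) {t x : G} (ht : t ∈ T) (hx : x ∈ V i) : t * x * t⁻¹ = x ∨ t * x * t⁻¹ = v * x := by
  by_cases hx1 : x = 1
  · left; rw [hx1]; group
  have htv := m.Tv t ht
  by_cases hxv : v = x
  · left; rw [← hxv, htv, mul_inv_cancel_right]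
  have h1 : t * x * t⁻¹ ∈ V i := conj_mem m.TV ht hx
  rcases h.cases4 m.vV hx m.v1 hx1 hxv h1 with h2 | h2 | h2 | h2
  · exact absurd (conj_eq_one_iff.1 h2) hx1
  · exfalso
    apply hxv
    have h3 : t * x = v * t := mul_inv_eq_iff_eq_mul.1 h2
    rw [← htv] at h3
    exact (mul_left_cancel h3).symm
  · exact Or.inl h2
  · exact Or.inr h2

/-- the conjugates under `T` of the elements of `(V i)^w` -/
theorem T_act' (h : Fr S V) {w t x : G} (hw : w ∈ normalizer (T : Set G)) (hwv : w * v = v * w) (ht : t ∈ T)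
    (hx : x ∈ V i) : t * (w * x * w⁻¹) * t⁻¹ = w * x * w⁻¹ ∨ t * (w * x * w⁻¹) * t⁻¹ = v * (w * x * w⁻¹) := by
  have e : t * (w * x * w⁻¹) * t⁻¹ = w * ((w⁻¹ * t * w) * x * (w⁻¹ * t * w)⁻¹) * w⁻¹ := by group
  rcases m.T_act h (m.conj_T hw ht) hx with h1 | h1
  · left; rw [e, h1]
  · right; rw [e, h1]
    calc w * (v * x) * w⁻¹ = (w * v) * x * w⁻¹ := by group
      _ = v * (w * x * w⁻¹) := by rw [hwv]; group

end Mx

section main

variable (h : Fr S V) {i : ι} {T : Subgroup G} {v w : G} (m : Mx V i T v)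
include h m

/-- some `t ∈ W_v` with `t x = v x t` for all `x ∈ V i`, `x ∉ {1, v}` -/
theorem exists_t : ∃ t ∈ KK v, ∀ x ∈ V i, x ≠ 1 → x ≠ v → t * x * t⁻¹ = v * x := by
  obtain ⟨b, hb, hb1, hvb⟩ := h.exists_other (i := i) v
  obtain ⟨t, ht, e⟩ := h.move m.vV hb m.v1 hb1 hvb
  refine ⟨t, ht, fun x hx hx1 hxv => ?_⟩
  rcases h.cases4 m.vV hb m.v1 hb1 hvb hx with rfl | rfl | rfl | rfl
  · exact absurd rfl hx1
  · exact absurd rfl hxv
  · exact e
  · have h1 := conj_of_comm (Fr.KK_comm ht)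
    calc t * (v * b) * t⁻¹ = (t * v * t⁻¹) * (t * b * t⁻¹) := by group
      _ = v * (v * b) := by rw [h1, e]

/-- **The element `k`.** -/
theorem exists_k (hw : w ∈ normalizer (T : Set G)) (hwv : w * v = v * w) (hwV : w ∉ normalizer (V i : Set G))
    (hcomm : ∀ x ∈ V i, ∀ y ∈ V i, w * y * w⁻¹ * x = x * (w * y * w⁻¹))
    (hL : ∀ y ∈ V i, ∀ s ∈ V i, s ≠ 1 → s ≠ v → Lin (V i) s (w * y * w⁻¹)) :
    ∃ a ∈ V i, a ≠ 1 ∧ a ≠ v ∧ ∃ y ∈ V i, y ≠ 1 ∧ y ≠ v ∧ ∃ k, w * y * w⁻¹ = a * k ∧ k ≠ 1 ∧ k * k = 1 ∧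
      (∀ t ∈ T, t * k = k * t) ∧ Cn (V i) k ∧ ∀ x ∈ V i, x * k = k * x := by
  obtain ⟨y, hy, hyV⟩ : ∃ y ∈ V i, w * y * w⁻¹ ∉ V i := by
    by_contra hcon
    push Not at hcon
    exact hwV (BTwo.mem_normalizer_of_conj hcon)
  have hy1 : y ≠ 1 := by
    rintro rfl
    exact hyV (by rw [mul_one, mul_inv_cancel]; exact one_mem _)
  have hyv : y ≠ v := by
    rintro rfl
    exact hyV (by rw [hwv, mul_inv_cancel_right]; exact hy)
  obtain ⟨c, hc⟩ : ∃ c, c = w * y * w⁻¹ := ⟨_, rfl⟩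
  have hcV : ∀ x ∈ V i, c * x = x * c := fun x hx => by rw [hc]; exact hcomm x hx y hy
  obtain ⟨b, hb, hb1, hvb⟩ := h.exists_other (i := i) v
  have hvb' : v * b ∈ V i := mul_mem m.vV hb
  have hbb := h.sq i b hb
  have hvv := h.sq i v m.vV
  have hne1 : v * b ≠ 1 := fun h0 => hvb (by
    calc v = v * (b * b) := by rw [hbb, mul_one]
      _ = (v * b) * b := by group
      _ = b := by rw [h0, one_mul])
  have hne3 : v * b ≠ v := fun h0 => hb1 (mul_eq_left.1 h0)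
  obtain ⟨a, ha, hac⟩ := exists_a h m.vV m.v1 hb hb1 hvb (by rw [hc]; exact hL y hy b hb hb1 (Ne.symm hvb))
    (by rw [hc]; exact hL y hy _ hvb' hne1 hne3) hcV
  -- `c` is moved by `W_v`
  have hmove : ¬ ∀ g ∈ KK v, g * c = c * g := by
    intro h0
    obtain ⟨t, ht, e⟩ := exists_t h m
    have h1 : w * t * w⁻¹ ∈ KK v := by
      have := KK_conj (h := w) ht
      rwa [hwv, mul_inv_cancel_right] at this
    have h2 := conj_of_comm (h0 _ h1)
    have h3 : w * t * w⁻¹ * c * (w * t * w⁻¹)⁻¹ = v * c := by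
      rw [hc]
      calc w * t * w⁻¹ * (w * y * w⁻¹) * (w * t * w⁻¹)⁻¹ = w * (t * y * t⁻¹) * w⁻¹ := by group
        _ = (w * v) * y * w⁻¹ := by rw [e y hy hy1 hyv]; group
        _ = v * (w * y * w⁻¹) := by rw [hwv]; group
    rw [h2] at h3
    exact m.v1 (right_eq_mul.1 h3)
  have haa := h.sq i a ha
  have hcc : c * c = 1 := by
    rw [hc]
    calc w * y * w⁻¹ * (w * y * w⁻¹) = w * (y * y) * w⁻¹ := by group
      _ = 1 := by rw [h.sq i y hy]; group
  have hca : c * a = a * c := hcV a ha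
  have hKv : ∀ x, x = 1 ∨ x = v → ∀ g ∈ KK v, g * x = x * g := by
    rintro x (rfl | rfl) g hg
    · simp
    · exact Fr.KK_comm hg
  have ha' : ¬ (a = 1 ∨ a = v) := by
    intro h0
    apply hmove
    intro g hg
    have h1 : Commute g a := hKv a h0 g hg
    have h2 : Commute g (a * c) := hac v m.vV m.v1 g hg
    have e : c = a⁻¹ * (a * c) := by group
    rw [e]
    exact (h1.inv_right.mul_right h2).eq
  push Not at ha'
  refine ⟨a, ha, ha'.1, ha'.2, y, hy, hy1, hyv, a * c, ?_, ?_, ?_, ?_, hac, ?_⟩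
  · rw [← hc, ← mul_assoc, haa, one_mul]
  · intro h0
    apply hyV
    rw [← hc]
    have : c = a := by
      calc c = (a * a) * c := by rw [haa, one_mul]
        _ = a * (a * c) := by group
        _ = a := by rw [h0, mul_one]
    rw [this]; exact ha
  · calc a * c * (a * c) = a * (c * a) * c := by group
      _ = (a * a) * (c * c) := by rw [hca]; group
      _ = 1 := by rw [haa, hcc, one_mul]
  · intro t ht
    have h1 := m.T_act' h hw hwv ht hy
    rw [← hc] at h1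
    have h2 := m.T_act h ht ha
    have e : t * (a * c) * t⁻¹ = (t * a * t⁻¹) * (t * c * t⁻¹) := by group
    have h3 : t * (a * c) * t⁻¹ = a * c ∨ t * (a * c) * t⁻¹ = v * (a * c) := by
      have hcv : c * v = v * c := hcV v m.vV
      have hav : a * v = v * a := h.comm i i a ha v m.vV
      rcases h1 with h1 | h1 <;> rcases h2 with h2 | h2
      · left; rw [e, h1, h2]
      · right; rw [e, h1, h2]; group
      · right; rw [e, h1, h2]
        calc a * (v * c) = (a * v) * c := by group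
          _ = v * (a * c) := by rw [hav]; group
      · left; rw [e, h1, h2]
        calc v * a * (v * c) = v * (a * v) * c := by group
          _ = (v * v) * (a * c) := by rw [hav]; group
          _ = a * c := by rw [hvv, one_mul]
    rcases h3 with h3 | h3
    · exact comm_of_conj h3
    · exfalso
      have h4 := hac.conj (m.TV ht)
      rw [h3] at h4
      have h5 := h4.mul hac.inv
      rw [mul_inv_cancel_right] at h5
      exact m.v1 (eq_one_of_Cn h m.vV h5)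
  · intro x hx
    have h1 : x * a = a * x := h.comm i i x hx a ha
    calc x * (a * c) = (x * a) * c := by group
      _ = a * (c * x) := by rw [h1, hcV x hx]; group
      _ = a * c * x := by group

/-- **The 7-point case is impossible.** -/
theorem seven (hwv : w * v = v * w) {a y k : G} (ha : a ∈ V i) (ha1 : a ≠ 1) (hav : a ≠ v) (hy : y ∈ V i)
    (hy1 : y ≠ 1) (hyv : y ≠ v) (he : w * y * w⁻¹ = a * k) (hkk : k * k = 1)
    (hk : Cn (V i) k) (hkV : ∀ x ∈ V i, x * k = k * x) (h7 : Cn (V i) (w⁻¹ * (v * k) * w)) : False := by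
  have haa := h.sq i a ha
  have hvv := h.sq i v m.vV
  have hva : v * a = a * v := h.comm i i v m.vV a ha
  have hak := hkV a ha
  have hvk := hkV v m.vV
  -- `κ`
  obtain ⟨κ₀, hκ₀, hκv⟩ := h.move hy m.vV hy1 m.v1 hyv
  obtain ⟨κ, hκ⟩ : ∃ κ, κ = w * κ₀ * w⁻¹ := ⟨_, rfl⟩
  have hw' : w * v * w⁻¹ = v := by rw [hwv, mul_inv_cancel_right]
  have k1 : κ * v * κ⁻¹ = a * k * v := by
    have hw'' : w⁻¹ * v * w = v := by rw [mul_assoc, ← hwv, inv_mul_cancel_left]
    calc κ * v * κ⁻¹ = w * (κ₀ * (w⁻¹ * v * w) * κ₀⁻¹) * w⁻¹ := by rw [hκ]; group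
      _ = (w * y * w⁻¹) * (w * v * w⁻¹) := by rw [hw'', hκv]; group
      _ = a * k * v := by rw [he, hw']
  have k2 : κ * (a * k) * κ⁻¹ = a * k := by
    have h1 : κ₀ * y = y * κ₀ := Fr.KK_comm hκ₀
    rw [← he, hκ]
    calc w * κ₀ * w⁻¹ * (w * y * w⁻¹) * (w * κ₀ * w⁻¹)⁻¹ = w * (κ₀ * y) * κ₀⁻¹ * w⁻¹ := by group
      _ = w * y * w⁻¹ := by rw [h1]; group
  have k3 : κ * (v * k) * κ⁻¹ = v * k := by
    have h1 := h7 y hy hy1 κ₀ hκ₀
    rw [hκ]
    calc w * κ₀ * w⁻¹ * (v * k) * (w * κ₀ * w⁻¹)⁻¹ = w * (κ₀ * (w⁻¹ * (v * k) * w)) * κ₀⁻¹ * w⁻¹ := by group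
      _ = v * k := by rw [h1]; group
  have k4 : κ * k * κ⁻¹ = a := by
    have e1 : k = v * (v * k) := by rw [← mul_assoc, hvv, one_mul]
    calc κ * k * κ⁻¹ = κ * (v * (v * k)) * κ⁻¹ := by rw [← e1]
      _ = (κ * v * κ⁻¹) * (κ * (v * k) * κ⁻¹) := by group
      _ = a * k * v * (v * k) := by rw [k1, k3]
      _ = a * k * (v * v) * k := by group
      _ = a * (k * k) := by rw [hvv]; group
      _ = a := by rw [hkk, mul_one]
  have k5 : κ * a * κ⁻¹ = k := by
    have e1 : a = (a * k) * k := by rw [mul_assoc, hkk, mul_one]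
    calc κ * a * κ⁻¹ = κ * (a * k * k) * κ⁻¹ := by rw [← e1]
      _ = (κ * (a * k) * κ⁻¹) * (κ * k * κ⁻¹) := by group
      _ = a * k * a := by rw [k2, k4]
      _ = a * a * k := by rw [mul_assoc, ← hak, mul_assoc]
      _ = k := by rw [haa, one_mul]
  have k4' : κ⁻¹ * a * κ = k := by rw [← k4]; group
  have k5' : κ⁻¹ * k * κ = a := by rw [← k5]; group
  -- `g ∈ W_a` moves `v`
  obtain ⟨g, hg, hgv⟩ := h.move ha m.vV ha1 m.v1 hav
  have hga : g * a = a * g := Fr.KK_comm hg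
  have hgk : g * k = k * g := hk a ha ha1 g hg
  obtain ⟨g', hg'⟩ : ∃ g', g' = κ⁻¹ * g * κ := ⟨_, rfl⟩
  have hg'K : g' ∈ KK k := by
    have := KK_conj (h := κ⁻¹) hg
    rw [inv_inv, k4'] at this
    rwa [hg']
  have g1 : g' * v * g'⁻¹ = v * k := by
    calc g' * v * g'⁻¹ = κ⁻¹ * (g * (κ * v * κ⁻¹) * g⁻¹) * κ := by rw [hg']; group
      _ = κ⁻¹ * ((g * a * g⁻¹) * (g * k * g⁻¹) * (g * v * g⁻¹)) * κ := by rw [k1]; group
      _ = κ⁻¹ * (a * k * (a * v)) * κ := by rw [conj_of_comm hga, conj_of_comm hgk, hgv]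
      _ = κ⁻¹ * (a * (k * a) * v) * κ := by group
      _ = κ⁻¹ * ((a * a) * (k * v)) * κ := by rw [← hak]; group
      _ = κ⁻¹ * (v * k) * κ := by rw [haa, one_mul, hvk]
      _ = v * k := by nth_rewrite 1 [← k3]; group
  have g2 : g' * a * g'⁻¹ = a := by
    calc g' * a * g'⁻¹ = κ⁻¹ * (g * (κ * a * κ⁻¹) * g⁻¹) * κ := by rw [hg']; group
      _ = κ⁻¹ * k * κ := by rw [k5, conj_of_comm hgk]
      _ = a := k5'
  have g3 : g' * k * g'⁻¹ = k := conj_of_comm (Fr.KK_comm hg'K)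
  -- `t ∈ W_v`
  obtain ⟨t, ht, hta⟩ := h.move m.vV ha m.v1 ha1 (Ne.symm hav)
  have htv : t * v = v * t := Fr.KK_comm ht
  have htk : t * k = k * t := hk v m.vV m.v1 t ht
  obtain ⟨l, hl⟩ : ∃ l, l = t * g' * t⁻¹ := ⟨_, rfl⟩
  have hlK : l ∈ KK k := by
    have := KK_conj (h := t) hg'K
    rw [conj_of_comm htk] at this
    rwa [hl]
  have ht' : t⁻¹ * a * t = v * a := by
    have h1 : t * (v * a) * t⁻¹ = a := by
      calc t * (v * a) * t⁻¹ = (t * v * t⁻¹) * (t * a * t⁻¹) := by group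
        _ = v * (v * a) := by rw [conj_of_comm htv, hta]
        _ = a := by rw [← mul_assoc, hvv, one_mul]
    calc t⁻¹ * a * t = t⁻¹ * (t * (v * a) * t⁻¹) * t := by rw [h1]
      _ = v * a := by group
  have htv' : t⁻¹ * v * t = v := by rw [mul_assoc, ← htv, inv_mul_cancel_left]
  have l1 : l * v * l⁻¹ = v * k := by
    calc l * v * l⁻¹ = t * (g' * (t⁻¹ * v * t) * g'⁻¹) * t⁻¹ := by rw [hl]; group
      _ = (t * v * t⁻¹) * (t * k * t⁻¹) := by rw [htv', g1]; group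
      _ = v * k := by rw [conj_of_comm htv, conj_of_comm htk]
  have l2 : l * a * l⁻¹ = a * k := by
    calc l * a * l⁻¹ = t * (g' * (t⁻¹ * a * t) * g'⁻¹) * t⁻¹ := by rw [hl]; group
      _ = t * ((g' * v * g'⁻¹) * (g' * a * g'⁻¹)) * t⁻¹ := by rw [ht']; group
      _ = (t * v * t⁻¹) * (t * k * t⁻¹) * (t * a * t⁻¹) := by rw [g1, g2]; group
      _ = v * k * (v * a) := by rw [conj_of_comm htv, conj_of_comm htk, hta]
      _ = v * (k * v) * a := by group
      _ = (v * v) * (k * a) := by rw [← hvk]; group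
      _ = a * k := by rw [hvv, one_mul, hak]
  -- `q = g'⁻¹ l`
  obtain ⟨q, hq⟩ : ∃ q, q = g'⁻¹ * l := ⟨_, rfl⟩
  have hqK : q ∈ KK k := by rw [hq]; exact mul_mem (inv_mem hg'K) hlK
  have q2 : q * a * q⁻¹ = a * k := by
    have e2 : g'⁻¹ * a * g' = a := by
      calc g'⁻¹ * a * g' = g'⁻¹ * (g' * a * g'⁻¹) * g' := by rw [g2]
        _ = a := by group
    have e3 : g'⁻¹ * k * g' = k := by
      calc g'⁻¹ * k * g' = g'⁻¹ * (g' * k * g'⁻¹) * g' := by rw [g3]
        _ = k := by group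
    calc q * a * q⁻¹ = g'⁻¹ * (l * a * l⁻¹) * g' := by rw [hq]; group
      _ = (g'⁻¹ * a * g') * (g'⁻¹ * k * g') := by rw [l2]; group
      _ = a * k := by rw [e2, e3]
  have hr : κ * q * κ⁻¹ ∈ KK a := by
    have := KK_conj (h := κ) hqK
    rwa [k4] at this
  have h8 := conj_of_comm (hk a ha ha1 _ hr)
  have h9 : κ * q * κ⁻¹ * k * (κ * q * κ⁻¹)⁻¹ = k * a := by
    calc κ * q * κ⁻¹ * k * (κ * q * κ⁻¹)⁻¹ = κ * (q * (κ⁻¹ * k * κ) * q⁻¹) * κ⁻¹ := by group
      _ = (κ * a * κ⁻¹) * (κ * k * κ⁻¹) := by rw [k5', q2]; group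
      _ = k * a := by rw [k5, k4]
  rw [h8] at h9
  exact ha1 (left_eq_mul.1 h9)

/-- **The element `γ`.** -/
theorem exists_gamma (hwv : w * v = v * w) {a y k : G} (ha : a ∈ V i) (ha1 : a ≠ 1) (hav : a ≠ v) (hy : y ∈ V i)
    (hy1 : y ≠ 1) (hyv : y ≠ v) (he : w * y * w⁻¹ = a * k) (hkk : k * k = 1)
    (hk : Cn (V i) k) (hkV : ∀ x ∈ V i, x * k = k * x)
    (h7 : Cn (V i) (w⁻¹ * k * w) ∨ Cn (V i) (w⁻¹ * (v * k) * w)) :
    ∃ g, g * v * g⁻¹ = v * k ∧ g * k * g⁻¹ = k ∧ g ∈ normalizer ((V i ⊔ zpowers k : Subgroup G) : Set G) := by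
  replace h7 := h7.resolve_right fun h0 => seven h m hwv ha ha1 hav hy hy1 hyv he hkk hk hkV h0
  have haa := h.sq i a ha
  have hvv := h.sq i v m.vV
  have hva : v * a = a * v := h.comm i i v m.vV a ha
  have hak := hkV a ha
  have hvk := hkV v m.vV
  obtain ⟨κ₀, hκ₀, hκv⟩ := h.move hy m.vV hy1 m.v1 hyv
  obtain ⟨κ, hκ⟩ : ∃ κ, κ = w * κ₀ * w⁻¹ := ⟨_, rfl⟩
  have hw' : w * v * w⁻¹ = v := by rw [hwv, mul_inv_cancel_right]
  have k1 : κ * v * κ⁻¹ = a * k * v := by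
    have hw'' : w⁻¹ * v * w = v := by rw [mul_assoc, ← hwv, inv_mul_cancel_left]
    calc κ * v * κ⁻¹ = w * (κ₀ * (w⁻¹ * v * w) * κ₀⁻¹) * w⁻¹ := by rw [hκ]; group
      _ = (w * y * w⁻¹) * (w * v * w⁻¹) := by rw [hw'', hκv]; group
      _ = a * k * v := by rw [he, hw']
  have k2 : κ * (a * k) * κ⁻¹ = a * k := by
    have h1 : κ₀ * y = y * κ₀ := Fr.KK_comm hκ₀
    rw [← he, hκ]
    calc w * κ₀ * w⁻¹ * (w * y * w⁻¹) * (w * κ₀ * w⁻¹)⁻¹ = w * (κ₀ * y) * κ₀⁻¹ * w⁻¹ := by group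
      _ = w * y * w⁻¹ := by rw [h1]; group
  have k3 : κ * k * κ⁻¹ = k := by
    have h1 := h7 y hy hy1 κ₀ hκ₀
    rw [hκ]
    calc w * κ₀ * w⁻¹ * k * (w * κ₀ * w⁻¹)⁻¹ = w * (κ₀ * (w⁻¹ * k * w)) * κ₀⁻¹ * w⁻¹ := by group
      _ = k := by rw [h1]; group
  have k4 : κ * a * κ⁻¹ = a := by
    calc κ * a * κ⁻¹ = (κ * (a * k) * κ⁻¹) * (κ * k * κ⁻¹)⁻¹ := by group
      _ = a := by rw [k2, k3]; group
  obtain ⟨g, hg, hgv⟩ := h.move ha m.vV ha1 m.v1 hav
  have hga := conj_of_comm (Fr.KK_comm hg)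
  have hgk := conj_of_comm (hk a ha ha1 g hg)
  have hF1 : V i ≤ V i ⊔ zpowers k := le_sup_left
  have hF2 : k ∈ V i ⊔ zpowers k := mem_sup_right (mem_zpowers k)
  -- an element which maps `v`, `a`, `k` into `F` normalises `F`
  have norm : ∀ r : G, r * v * r⁻¹ ∈ V i ⊔ zpowers k → r * a * r⁻¹ ∈ V i ⊔ zpowers k →
      r * k * r⁻¹ ∈ V i ⊔ zpowers k → r ∈ normalizer ((V i ⊔ zpowers k : Subgroup G) : Set G) := by
    intro r h1 h2 h3
    refine BTwo.mem_normalizer_of_conj fun x hx => ?_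
    have h4 : V i ⊔ zpowers k ≤ (V i ⊔ zpowers k).comap (MulAut.conj r).toMonoidHom := by
      refine sup_le (fun z hz => ?_) ?_
      · change r * z * r⁻¹ ∈ V i ⊔ zpowers k
        rcases h.cases4 m.vV ha m.v1 ha1 (Ne.symm hav) hz with rfl | rfl | rfl | rfl
        · rw [mul_one, mul_inv_cancel]; exact one_mem _
        · exact h1
        · exact h2
        · have e : r * (v * a) * r⁻¹ = (r * v * r⁻¹) * (r * a * r⁻¹) := by group
          rw [e]; exact mul_mem h1 h2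
      · rw [zpowers_le]; exact h3
    exact h4 hx
  have hκn : κ ∈ normalizer ((V i ⊔ zpowers k : Subgroup G) : Set G) := by
    refine norm κ ?_ ?_ ?_
    · rw [k1]; exact mul_mem (mul_mem (hF1 ha) hF2) (hF1 m.vV)
    · rw [k4]; exact hF1 ha
    · rw [k3]; exact hF2
  have hgn : g ∈ normalizer ((V i ⊔ zpowers k : Subgroup G) : Set G) := by
    refine norm g ?_ ?_ ?_
    · rw [hgv]; exact mul_mem (hF1 ha) (hF1 m.vV)
    · rw [hga]; exact hF1 ha
    · rw [hgk]; exact hF2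
  refine ⟨g * κ, ?_, ?_, mul_mem hgn hκn⟩
  · calc g * κ * v * (g * κ)⁻¹ = g * (κ * v * κ⁻¹) * g⁻¹ := by group
      _ = (g * a * g⁻¹) * (g * k * g⁻¹) * (g * v * g⁻¹) := by rw [k1]; group
      _ = a * k * (a * v) := by rw [hga, hgk, hgv]
      _ = a * (k * a) * v := by group
      _ = (a * a) * (k * v) := by rw [← hak]; group
      _ = v * k := by rw [haa, one_mul, hvk]
  · calc g * κ * k * (g * κ)⁻¹ = g * (κ * k * κ⁻¹) * g⁻¹ := by group
      _ = k := by rw [k3, hgk]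

end main

end Cfsg.Agent.Omega.IId.NV.BigD.Node
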